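import Mathlib

/-!
Irreducible characters over an algebraically closed field of coprime characteristic, and the
orthogonality relation for twisted characters.
-/

set_option autoImplicit false

namespace Cfsg.Agent.Lib.CaminaPair.Linear

open Representation Module

variable {K A V W : Type*} [Field K] [Group A]
  [AddCommGroup V] [Module K V] [AddCommGroup W] [Module K W]

/-- Irreducibility from the invariant subspaces. -/
theorem isIrreducible_of {ρ : Representation K A V} [Nontrivial V]
    (h : ∀ U : Submodule K V, (∀ a, ∀ x ∈ U, ρ a x ∈ U) → U = ⊥ ∨ U = ⊤) :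
    Representation.IsIrreducible ρ where
  exists_pair_ne := ⟨⊥, ⊤, fun hbt => by
    obtain ⟨x, hx⟩ := exists_ne (0 : V)
    have : x ∈ (⊥ : Subrepresentation ρ) := hbt ▸ (show x ∈ (⊤ : Subrepresentation ρ) from trivial)
    exact hx this⟩
  eq_bot_or_eq_top U := by
    rcases h U.toSubmodule (fun a x hx => U.apply_mem_toSubmodule a hx) with h' | h'
    · exact Or.inl (Subrepresentation.toSubmodule_injective h')
    · exact Or.inr (Subrepresentation.toSubmodule_injective h')

/-- Invariant subspaces of an irreducible representation are trivial. -/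
theorem eq_bot_or_eq_top {ρ : Representation K A V} [hρ : Representation.IsIrreducible ρ]
    (U : Submodule K V) (hU : ∀ a, ∀ x ∈ U, ρ a x ∈ U) : U = ⊥ ∨ U = ⊤ := by
  rcases IsSimpleOrder.eq_bot_or_eq_top (⟨U, fun a x hx => hU a x hx⟩ : Subrepresentation ρ) with h | h
  · exact Or.inl (congrArg Subrepresentation.toSubmodule h)
  · exact Or.inr (congrArg Subrepresentation.toSubmodule h)

theorem nontrivial_of_isIrreducible (ρ : Representation K A V)
    [hρ : Representation.IsIrreducible ρ] : Nontrivial V := by
  by_contra hc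
  rw [not_nontrivial_iff_subsingleton] at hc
  obtain ⟨a, b, hab⟩ := hρ.exists_pair_ne
  exact hab (Subrepresentation.toSubmodule_injective (Subsingleton.elim _ _))

section Trace

variable [FiniteDimensional K V] [FiniteDimensional K W]

/-- Trace of `M ↦ F ∘ M ∘ H`. -/
theorem trace_sandwich (F : W →ₗ[K] W) (H : V →ₗ[K] V) :
    LinearMap.trace K (V →ₗ[K] W) ((LinearMap.llcomp K V W W F).comp (LinearMap.lcomp K W H)) =
      LinearMap.trace K W F * LinearMap.trace K V H := by
  classical
  obtain ⟨bV, -⟩ : ∃ b : Module.Basis (Fin (finrank K V)) K V, b = Module.finBasis K V := ⟨_, rfl⟩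
  obtain ⟨bW, -⟩ : ∃ b : Module.Basis (Fin (finrank K W)) K W, b = Module.finBasis K W := ⟨_, rfl⟩
  obtain ⟨B, hB⟩ : ∃ B : Module.Basis (Fin (finrank K W) × Fin (finrank K V)) K (V →ₗ[K] W),
      B = (Matrix.stdBasis K _ _).map (Matrix.toLin bV bW) := ⟨_, rfl⟩
  rw [LinearMap.trace_eq_matrix_trace K B, LinearMap.trace_eq_matrix_trace K bW,
    LinearMap.trace_eq_matrix_trace K bV, Matrix.trace, Matrix.trace, Matrix.trace,
    Finset.sum_mul_sum, Fintype.sum_prod_type]
  refine Finset.sum_congr rfl fun j _ => Finset.sum_congr rfl fun i _ => ?_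
  simp only [Matrix.diag_apply]
  rw [LinearMap.toMatrix_apply]
  have hrep : ∀ M : V →ₗ[K] W, B.repr M (j, i) = LinearMap.toMatrix bV bW M j i := fun M => by
    rw [hB, Module.Basis.map_repr]
    simp [Matrix.stdBasis]
  rw [hrep]
  have hcomp : ((LinearMap.llcomp K V W W F).comp (LinearMap.lcomp K W H)) (B (j, i)) =
      F ∘ₗ (B (j, i)) ∘ₗ H := by ext x; rfl
  rw [hcomp, LinearMap.toMatrix_comp bV bW bW, LinearMap.toMatrix_comp bV bV bW]
  have hBji : LinearMap.toMatrix bV bW (B (j, i)) = Matrix.single j i (1 : K) := by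
    rw [hB, Module.Basis.map_apply, Matrix.stdBasis_eq_single, LinearMap.toMatrix_toLin]
  rw [hBji, ← Matrix.mul_assoc]
  simp [Matrix.mul_apply, Matrix.single_apply, ite_and]

variable [Finite A] [NeZero (Nat.card A : K)]

/-- Twisted characters of inequivalent irreducible representations are orthogonal. -/
theorem sum_twisted_eq_zero (ρ : Representation K A V) (τ : Representation K A W)
    [Representation.IsIrreducible ρ] [Representation.IsIrreducible τ]
    (hne : IsEmpty (Representation.Equiv τ ρ)) (s : V →ₗ[K] V) (t : W →ₗ[K] W) [Fintype A] :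
    ∑ a : A, LinearMap.trace K V (s ∘ₗ ρ a) * LinearMap.trace K W (τ a⁻¹ ∘ₗ t) = 0 := by
  have h0 : ∀ M : W →ₗ[K] V, ∑ a : A, linHom τ ρ a M = 0 := by
    intro M
    have hinv : ∑ a : A, linHom τ ρ a M ∈ (linHom τ ρ).invariants := fun g => by
      rw [map_sum]
      exact Fintype.sum_equiv (Equiv.mulLeft g) _ _ fun a => by simp
    have h1 := Subsingleton.elim (invariantsEquivIntertwiningMap τ ρ ⟨_, hinv⟩) 0
    rw [LinearEquiv.map_eq_zero_iff] at h1
    exact congrArg Subtype.val h1
  simp_rw [← trace_sandwich]
  rw [← map_sum]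
  convert map_zero (LinearMap.trace K (W →ₗ[K] V))
  ext M x
  have h1 := congrArg (fun L => s (L (t x))) (h0 M)
  simpa [LinearMap.sum_apply, map_sum] using h1

/-- The norm of a twisted character. -/
theorem sum_twisted_self [IsAlgClosed K] (ρ : Representation K A V)
    [Representation.IsIrreducible ρ] (s : V ≃ₗ[K] V) [Fintype A] :
    ∑ a : A, LinearMap.trace K V ((s : V →ₗ[K] V) ∘ₗ ρ a) *
      LinearMap.trace K V (ρ a⁻¹ ∘ₗ (s.symm : V →ₗ[K] V)) = (Nat.card A : K) := by
  have hN : (Nat.card A : K) ≠ 0 := NeZero.ne _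
  obtain ⟨S, hS⟩ : ∃ S, S = ∑ a : A, linHom ρ ρ a := ⟨_, rfl⟩
  have hSinv : ∀ M, S M ∈ (linHom ρ ρ).invariants := fun M g => by
    rw [hS, LinearMap.sum_apply, map_sum]
    exact Fintype.sum_equiv (Equiv.mulLeft g) _ _ fun a => by simp
  have hscal : ∀ M, ∃ c : K, S M = c • LinearMap.id := by
    intro M
    obtain ⟨c, hc⟩ := (Representation.IsIrreducible.algebraMap_intertwiningMap_bijective_of_isAlgClosed
      (ρ := ρ)).2 (invariantsEquivIntertwiningMap ρ ρ ⟨_, hSinv M⟩)
    refine ⟨c, ?_⟩
    have h1 := congrArg IntertwiningMap.toLinearMap hc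
    rw [Algebra.algebraMap_eq_smul_one] at h1
    exact h1.symm
  have hL : ((LinearMap.llcomp K V V V (s : V →ₗ[K] V)).comp
      (LinearMap.lcomp K V (s.symm : V →ₗ[K] V))).comp S = S := by
    ext M x
    obtain ⟨c, hc⟩ := hscal M
    simp [hc]
  have hproj : LinearMap.IsProj (linHom ρ ρ).invariants ((Nat.card A : K)⁻¹ • S) := by
    refine ⟨fun M => Submodule.smul_mem _ _ (hSinv M), fun M hM => ?_⟩
    rw [LinearMap.smul_apply, hS, LinearMap.sum_apply, Finset.sum_congr rfl fun a _ => hM a,
      Finset.sum_const, Finset.card_univ, ← Nat.cast_smul_eq_nsmul K, smul_smul,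
      ← Nat.card_eq_fintype_card, inv_mul_cancel₀ hN, one_smul]
  have htr := hproj.trace
  rw [(invariantsEquivIntertwiningMap ρ ρ).finrank_eq,
    Representation.IsIrreducible.finrank_intertwiningMap_self, Nat.cast_one, map_smul,
    smul_eq_mul, inv_mul_eq_one₀ hN] at htr
  simp_rw [← trace_sandwich]
  rw [← map_sum]
  refine Eq.trans (congrArg _ ?_) htr.symm
  rw [← hL, hS]
  ext M x
  simp [LinearMap.sum_apply, map_sum]

end Trace

/-- `χ` is the character of an irreducible representation. -/
def IsIrrChar (K : Type*) [Field K] {A : Type*} [Group A] (χ : A → K) : Prop :=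
  ∃ (n : ℕ) (ρ : Representation K A (Fin n → K)), Representation.IsIrreducible ρ ∧ ρ.character = χ

/-- Transport of a representation along a linear equivalence. -/
def transport (ρ : Representation K A V) (e : V ≃ₗ[K] W) : Representation K A W where
  toFun a := e.conj (ρ a)
  map_one' := by ext x; simp [LinearEquiv.conj_apply_apply]
  map_mul' a b := by ext x; simp [LinearEquiv.conj_apply_apply]

theorem transport_apply (ρ : Representation K A V) (e : V ≃ₗ[K] W) (a : A) (x : W) :
    transport ρ e a x = e (ρ a (e.symm x)) := rfl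

/-- Every irreducible representation gives an irreducible character. -/
theorem isIrrChar_character [FiniteDimensional K V] (ρ : Representation K A V)
    [hρ : Representation.IsIrreducible ρ] : IsIrrChar K ρ.character := by
  haveI := nontrivial_of_isIrreducible ρ
  let e := (Module.finBasis K V).equivFun
  refine ⟨_, transport ρ e, ?_, funext fun a => LinearMap.trace_conj' (ρ a) e⟩
  haveI : Nontrivial (Fin (finrank K V) → K) := e.injective.nontrivial
  refine isIrreducible_of fun U hU => ?_
  rcases eq_bot_or_eq_top (ρ := ρ) (U.comap (e : V →ₗ[K] (Fin (finrank K V) → K))) (fun a x hx => by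
    have h := hU a _ hx
    rw [transport_apply] at h
    simpa using h) with h | h
  · refine Or.inl (eq_bot_iff.mpr fun x hx => ?_)
    have : e.symm x ∈ U.comap (e : V →ₗ[K] (Fin (finrank K V) → K)) := by simpa using hx
    rw [h, Submodule.mem_bot] at this
    simpa using this
  · refine Or.inr (eq_top_iff.mpr fun x _ => ?_)
    have : e.symm x ∈ U.comap (e : V →ₗ[K] (Fin (finrank K V) → K)) := h ▸ trivial
    simpa using this

/-- Irreducible representations with equal characters are equivalent. -/
theorem nonempty_equiv_of_character_eq [FiniteDimensional K V] [FiniteDimensional K W] [Finite A]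
    [NeZero (Nat.card A : K)] [IsAlgClosed K] (ρ : Representation K A V) (τ : Representation K A W)
    [Representation.IsIrreducible ρ] [Representation.IsIrreducible τ]
    (h : ρ.character = τ.character) : Nonempty (Representation.Equiv τ ρ) := by
  haveI := Fintype.ofFinite A
  by_contra hc
  have h1 := sum_twisted_eq_zero ρ τ (not_nonempty_iff.mp hc) LinearMap.id LinearMap.id
  have h2 := sum_twisted_self ρ (LinearEquiv.refl K V)
  refine NeZero.ne (Nat.card A : K) ?_
  rw [← h2, ← h1]
  refine Finset.sum_congr rfl fun a _ => ?_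
  have ha : LinearMap.trace K V (ρ a⁻¹) = LinearMap.trace K W (τ a⁻¹) := congrFun h a⁻¹
  simpa using Or.inl ha

end Cfsg.Agent.Lib.CaminaPair.Linear
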