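import Mathlib
import Cfsg.Agent.Lib.CaminaPair.Linear.Irr

/-!
Conjugation of irreducible characters of a normal subgroup, and a bound for the number of
characters fixed by an element whose coset lies in one class.
-/

set_option autoImplicit false

namespace Cfsg.Agent.Lib.CaminaPair.Linear

open Representation Module Subgroup

variable {K P : Type*} [Field K] [Group P] {A : Subgroup P} [A.Normal]

/-- The conjugate of a function on a normal subgroup. -/
def conjFun (g : P) (χ : A → K) : A → K := fun a => χ (MulAut.conjNormal g a)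

theorem conjFun_one (χ : A → K) : conjFun 1 χ = χ := by
  funext a; simp [conjFun]

theorem conjFun_mul (g h : P) (χ : A → K) : conjFun (g * h) χ = conjFun h (conjFun g χ) := by
  funext a; simp [conjFun, map_mul]

/-- The stabiliser of a function on a normal subgroup. -/
def stab (χ : A → K) : Subgroup P where
  carrier := {g | conjFun g χ = χ}
  one_mem' := conjFun_one χ
  mul_mem' := fun {g h} hg hh => by
    show conjFun (g * h) χ = χ
    rw [conjFun_mul, show conjFun g χ = χ from hg, show conjFun h χ = χ from hh]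
  inv_mem' := fun {g} hg => by
    show conjFun g⁻¹ χ = χ
    have h1 : conjFun g⁻¹ (conjFun g χ) = χ := by rw [← conjFun_mul, mul_inv_cancel, conjFun_one]
    rwa [show conjFun g χ = χ from hg] at h1

theorem mem_stab {χ : A → K} {g : P} : g ∈ stab χ ↔ conjFun g χ = χ := Iff.rfl

theorem mem_stab_conjFun {χ : A → K} {g x : P} :
    x ∈ stab (conjFun g χ) ↔ g * x * g⁻¹ ∈ stab χ := by
  rw [mem_stab, mem_stab, ← conjFun_mul]
  constructor
  · intro h
    rw [conjFun_mul, h, ← conjFun_mul, mul_inv_cancel, conjFun_one]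
  · intro h
    calc conjFun (g * x) χ = conjFun (g * x * g⁻¹ * g) χ := by rw [inv_mul_cancel_right]
      _ = conjFun g χ := by rw [conjFun_mul, h]

theorem conjFun_isIrrChar {χ : A → K} (hχ : IsIrrChar K χ) (g : P) : IsIrrChar K (conjFun g χ) := by
  obtain ⟨n, ρ, hρ, rfl⟩ := hχ
  haveI := nontrivial_of_isIrreducible ρ
  refine ⟨n, ρ.comp (MulAut.conjNormal g : MulAut A).toMonoidHom, ?_, rfl⟩
  refine isIrreducible_of fun U hU => eq_bot_or_eq_top (ρ := ρ) U fun a x hx => ?_
  have h := hU ((MulAut.conjNormal g : MulAut A).symm a) x hx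
  simpa using h

theorem isIrrChar_const_one : IsIrrChar K (fun _ : A => (1 : K)) := by
  refine ⟨1, 1, ?_, funext fun a => ?_⟩
  · refine isIrreducible_of fun U _ => ?_
    refine or_iff_not_imp_left.mpr fun hU => Submodule.eq_top_of_finrank_eq ?_
    have h1 : finrank K (Fin 1 → K) = 1 := by simp
    have h2 := Submodule.finrank_le U
    have h3 : finrank K U ≠ 0 := fun h0 => hU (Submodule.finrank_eq_zero.mp h0)
    omega
  · simp [Representation.character]

theorem ne_const_one_of_ne_conjFun {χ : A → K} (g : P) (h : χ ≠ fun _ => 1) :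
    conjFun g χ ≠ fun _ => 1 := by
  refine fun he => h (funext fun a => ?_)
  have := congrFun he ((MulAut.conjNormal g : MulAut A).symm a)
  simpa [conjFun] using this

variable [Finite P] [IsAlgClosed K] [NeZero (Nat.card A : K)]

/-- At most `|C_A(v)|` irreducible characters of `A` are fixed by `v`, if `vA` lies in one class. -/
theorem card_le_of_fixed {v : P} (hcls : ∀ a ∈ A, ∃ x : P, x * v * x⁻¹ = v * a)
    (S : Finset (A → K)) (hS : ∀ χ ∈ S, IsIrrChar K χ ∧ v ∈ stab χ) :
    S.card ≤ Nat.card (A ⊓ centralizer ({v} : Set P) : Subgroup P) := by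
  classical
  haveI := Fintype.ofFinite A
  have hAn : A.Normal := inferInstance
  -- the coset and its orbits
  let Ω := {g : P // v⁻¹ * g ∈ A}
  letI : MulAction A Ω :=
    { smul := fun b g => ⟨(b : P) * g * (b : P)⁻¹, by
        have h1 := hAn.conj_mem b b.2 v⁻¹
        rw [inv_inv] at h1
        have h2 := mul_mem (mul_mem h1 g.2) (inv_mem b.2)
        simpa [mul_assoc] using h2⟩
      one_smul := fun g => Subtype.ext (by show ((1 : A) : P) * g * ((1 : A) : P)⁻¹ = g; simp)
      mul_smul := fun b c g => Subtype.ext (by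
        show ((b * c : A) : P) * g * ((b * c : A) : P)⁻¹ = (b : P) * ((c : P) * g * (c : P)⁻¹) * (b : P)⁻¹
        simp [mul_assoc]) }
  have hsmul : ∀ (b : A) (g : Ω), ((b • g : Ω) : P) = (b : P) * g * (b : P)⁻¹ := fun _ _ => rfl
  haveI := Fintype.ofFinite Ω
  let Q := MulAction.orbitRel.Quotient A Ω
  haveI : Fintype Q := Fintype.ofFinite Q
  obtain ⟨c, hc⟩ : ∃ c, c = Nat.card (A ⊓ centralizer ({v} : Set P) : Subgroup P) := ⟨_, rfl⟩
  have hstab : ∀ g : Ω, Nat.card (MulAction.stabilizer A g) = c := by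
    intro g
    obtain ⟨x, hx⟩ := hcls (v⁻¹ * g) g.2
    rw [mul_inv_cancel_left] at hx
    refine hc.symm ▸ Nat.card_congr ⟨fun b => ⟨x⁻¹ * (b : A) * x, ?_⟩,
      fun b => ⟨⟨x * (b : P) * x⁻¹, hAn.conj_mem _ b.2.1 x⟩, ?_⟩,
      fun b => Subtype.ext (Subtype.ext (by simp [mul_assoc])),
      fun b => Subtype.ext (by simp [mul_assoc])⟩
    · have hb := congrArg Subtype.val (show (b : A) • g = g from b.2)
      rw [hsmul] at hb
      refine ⟨by simpa using hAn.conj_mem _ (b : A).2 x⁻¹, mem_centralizer_singleton_iff.mpr ?_⟩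
      rw [← hx] at hb
      calc x⁻¹ * ((b : A) : P) * x * v = x⁻¹ * (((b : A) : P) * (x * v * x⁻¹) * ((b : A) : P)⁻¹) *
            ((b : A) : P) * x := by group
        _ = v * (x⁻¹ * ((b : A) : P) * x) := by rw [hb]; group
    · refine Subtype.ext ?_
      rw [hsmul]
      have hb := mem_centralizer_singleton_iff.mp b.2.2
      show x * (b : P) * x⁻¹ * g * (x * (b : P) * x⁻¹)⁻¹ = g
      rw [← hx]
      calc x * (b : P) * x⁻¹ * (x * v * x⁻¹) * (x * (b : P) * x⁻¹)⁻¹
          = x * ((b : P) * v) * (b : P)⁻¹ * x⁻¹ := by group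
        _ = x * (v * (b : P)) * (b : P)⁻¹ * x⁻¹ := by rw [hb]
        _ = x * v * x⁻¹ := by group
  have hQ : Fintype.card Q ≤ c := by
    have hcard : Nat.card Ω = Nat.card A := Nat.card_congr
      ⟨fun g => ⟨v⁻¹ * g, g.2⟩, fun a => ⟨v * a, by simp⟩,
        fun g => Subtype.ext (by simp), fun a => Subtype.ext (by simp)⟩
    have h1 : Nat.card Ω * c = Nat.card Q * Nat.card A := by
      rw [Nat.card_congr (MulAction.selfEquivSigmaOrbits A Ω), Nat.card_sigma, Finset.sum_mul,
        Finset.sum_congr rfl fun q _ => ?_, Finset.sum_const, Finset.card_univ, smul_eq_mul,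
        Nat.card_eq_fintype_card (α := Q)]
      rw [← hstab q.out, Nat.card_coe_set_eq, ← MulAction.index_stabilizer, Subgroup.index_mul_card]
    rw [hcard, mul_comm (Nat.card Q)] at h1
    rw [← Nat.card_eq_fintype_card, ← Nat.eq_of_mul_eq_mul_left Nat.card_pos h1]
  -- the twisted characters
  choose! n ρ hρ hχ using fun χ (h : χ ∈ S) => (hS χ h).1
  have hs : ∀ χ : S, ∃ s : (Fin (n χ.1) → K) ≃ₗ[K] (Fin (n χ.1) → K),
      ∀ a : A, (s : _ →ₗ[K] _) ∘ₗ ρ χ.1 a =
        ρ χ.1 (MulAut.conjNormal v a) ∘ₗ (s : _ →ₗ[K] _) := by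
    intro χ
    haveI := hρ χ.1 χ.2
    let σ := (ρ χ.1).comp (MulAut.conjNormal v : MulAut A).toMonoidHom
    haveI : Representation.IsIrreducible σ := by
      haveI := nontrivial_of_isIrreducible (ρ χ.1)
      refine isIrreducible_of fun U hU => eq_bot_or_eq_top (ρ := ρ χ.1) U fun a x hx => ?_
      have h := hU ((MulAut.conjNormal v : MulAut A).symm a) x hx
      simpa [σ] using h
    obtain ⟨e⟩ := nonempty_equiv_of_character_eq σ (ρ χ.1)
      (by
        rw [hχ χ.1 χ.2]
        funext a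
        have h := congrFun (hS χ.1 χ.2).2 a
        rw [conjFun] at h
        exact (congrFun (hχ χ.1 χ.2) _).trans h)
    exact ⟨e.toLinearEquiv, fun a => LinearMap.ext fun x => IntertwiningMap.isIntertwining (ρ χ.1) σ e.toIntertwiningMap a x⟩
  choose s hs using hs
  let F : S → Q → K := fun χ => Quotient.lift
    (fun g : Ω => LinearMap.trace K _ ((s χ : _ →ₗ[K] _) ∘ₗ ρ χ.1 ⟨v⁻¹ * g, g.2⟩))
    (by
      rintro g g' ⟨b, rfl⟩
      have heq : (⟨v⁻¹ * ((b • g' : Ω) : P), (b • g').2⟩ : A) =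
          (MulAut.conjNormal v : MulAut A).symm b * ⟨v⁻¹ * g', g'.2⟩ * b⁻¹ := by
        refine Subtype.ext ?_
        show v⁻¹ * ((b : P) * g' * (b : P)⁻¹) =
          ((MulAut.conjNormal v : MulAut A).symm b : A) * (v⁻¹ * g') * (b : P)⁻¹
        rw [MulAut.conjNormal_symm_apply]
        group
      show LinearMap.trace K _ ((s χ : _ →ₗ[K] _) ∘ₗ ρ χ.1 ⟨v⁻¹ * ((b • g' : Ω) : P), _⟩) = _
      rw [heq, map_mul, map_mul, Module.End.mul_eq_comp, Module.End.mul_eq_comp,
        ← LinearMap.comp_assoc, ← LinearMap.comp_assoc, hs, MulEquiv.apply_symm_apply,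
        LinearMap.trace_comp_comm', ← LinearMap.comp_assoc, ← LinearMap.comp_assoc,
        ← Module.End.mul_eq_comp (ρ χ.1 b⁻¹), ← map_mul, inv_mul_cancel, map_one,
        Module.End.one_eq_id, LinearMap.id_comp])
  have hind : LinearIndependent K F := by
    rw [Fintype.linearIndependent_iff]
    intro w hw χ₀
    have h0 : ∀ a : A, ∑ χ : S, w χ * LinearMap.trace K _ ((s χ : _ →ₗ[K] _) ∘ₗ ρ χ.1 a) = 0 := by
      intro a
      have h := congrFun hw (Quotient.mk'' (⟨v * a, by simp⟩ : Ω))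
      simp only [Finset.sum_apply, Pi.smul_apply, smul_eq_mul, Pi.zero_apply] at h
      rw [← h]
      refine Finset.sum_congr rfl fun χ _ => ?_
      show _ = w χ * LinearMap.trace K _ ((s χ : _ →ₗ[K] _) ∘ₗ ρ χ.1 ⟨v⁻¹ * (v * (a : P)), _⟩)
      congr 4
      all_goals exact Subtype.ext (inv_mul_cancel_left v (a : P)).symm
    haveI := hρ χ₀.1 χ₀.2
    have h1 : ∑ χ : S, w χ * ∑ a : A, LinearMap.trace K _ ((s χ : _ →ₗ[K] _) ∘ₗ ρ χ.1 a) *
        LinearMap.trace K _ (ρ χ₀.1 a⁻¹ ∘ₗ ((s χ₀).symm : _ →ₗ[K] _)) = 0 := by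
      simp_rw [Finset.mul_sum, ← mul_assoc]
      rw [Finset.sum_comm]
      refine Finset.sum_eq_zero fun a _ => ?_
      rw [← Finset.sum_mul, h0, zero_mul]
    rw [Finset.sum_eq_single χ₀ (fun χ _ hne => ?_) (by simp), sum_twisted_self] at h1
    · exact (mul_eq_zero.mp h1).resolve_right (NeZero.ne _)
    · haveI := hρ χ.1 χ.2
      rw [sum_twisted_eq_zero _ _ (not_nonempty_iff.mp fun ⟨e⟩ => hne (Subtype.ext
        ((hχ χ.1 χ.2).symm.trans ((Representation.char_iso e).symm.trans (hχ χ₀.1 χ₀.2))))), mul_zero]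
  have h2 := hind.fintype_card_le_finrank
  rw [Module.finrank_fintype_fun_eq_card, Fintype.card_coe] at h2
  exact hc ▸ h2.trans hQ

end Cfsg.Agent.Lib.CaminaPair.Linear
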