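import Mathlib
import Cfsg.Agent.Lib.CaminaPair.Linear.Fixed

/-!
In a `p`-group `P` with a normal subgroup `N` whose outside classes are unions of cosets, the
stabiliser of an irreducible character of a normal subgroup inside `N` has non-cyclic image
modulo `N`.
-/

set_option autoImplicit false

namespace Cfsg.Agent.Lib.CaminaPair.Linear

open Representation Module Subgroup

universe v u

variable {K : Type v} [Field K] [IsAlgClosed K] {P : Type u} [Group P] [Finite P]

/-- A stabiliser is never cyclic non-trivial modulo `N`. -/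
theorem false_of_stab_le {N A : Subgroup P} [N.Normal] [A.Normal] [NeZero (Nat.card A : K)]
    (hAN : A ≤ N) (hcls : ∀ x, x ∉ N → ∀ n ∈ N, ∃ g : P, g * x * g⁻¹ = x * n)
    {χ : A → K} (hχ : IsIrrChar K χ) (hne : χ ≠ fun _ => 1) {v : P} (hv : v ∈ stab χ)
    (hvN : v ∉ N) (hle : (stab χ).map (QuotientGroup.mk' N) ≤ zpowers (v : P ⧸ N)) : False := by
  classical
  haveI := Fintype.ofFinite P
  obtain ⟨c, hc⟩ : ∃ c, c = Nat.card (A ⊓ centralizer ({v} : Set P) : Subgroup P) := ⟨_, rfl⟩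
  obtain ⟨m, hm⟩ : ∃ m, m = orderOf (v : P ⧸ N) := ⟨_, rfl⟩
  let T : Finset P := Finset.univ.filter fun g => g * v * g⁻¹ ∈ stab χ
  let F : Finset (A → K) := T.image fun g => conjFun g χ
  have hbound : F.card + 1 ≤ c := by
    rw [hc, ← Finset.card_insert_of_notMem (a := fun _ : A => (1 : K)) (s := F) fun hmem => ?_]
    · refine card_le_of_fixed (fun a ha => hcls v hvN a (hAN ha)) _ fun ψ hψ => ?_
      rcases Finset.mem_insert.mp hψ with rfl | hψ
      · exact ⟨isIrrChar_const_one, funext fun _ => rfl⟩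
      · obtain ⟨g, hg, rfl⟩ := Finset.mem_image.mp hψ
        exact ⟨conjFun_isIrrChar hχ g, mem_stab_conjFun.mpr (Finset.mem_filter.mp hg).2⟩
    · obtain ⟨g, -, hg⟩ := Finset.mem_image.mp hmem
      exact ne_const_one_of_ne_conjFun g hne hg
  -- fibres
  have hT : T.card ≤ Nat.card (stab χ) * F.card := by
    refine Finset.card_le_mul_card_image T _ fun ψ hψ => ?_
    obtain ⟨g₀, -, rfl⟩ := Finset.mem_image.mp hψ
    rw [Nat.card_eq_fintype_card, ← Finset.card_univ]
    refine Finset.card_le_card_of_injOn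
      (fun g => if h : g * g₀⁻¹ ∈ stab χ then (⟨g * g₀⁻¹, h⟩ : stab χ) else 1)
      (fun _ _ => Finset.mem_univ _) fun a ha b hb hab => ?_
    have key : ∀ g ∈ ({a ∈ T | conjFun a χ = conjFun g₀ χ} : Finset P), g * g₀⁻¹ ∈ stab χ := by
      intro g hg
      rw [mem_stab, conjFun_mul, (Finset.mem_filter.mp hg).2, ← conjFun_mul, mul_inv_cancel,
        conjFun_one]
    simp only [dif_pos (key a ha), dif_pos (key b hb), Subtype.mk.injEq, mul_left_inj] at hab
    exact hab
  -- many conjugators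
  have hT2 : Nat.card (centralizer ({v} : Set P)) * Nat.card (stab χ ⊓ N : Subgroup P) ≤ T.card := by
    choose f hf using fun n : (stab χ ⊓ N : Subgroup P) => hcls v hvN n n.2.2
    rw [← Nat.card_prod, ← Fintype.card_coe T, ← Nat.card_eq_fintype_card]
    have hconj : ∀ (d : centralizer ({v} : Set P)) (n : (stab χ ⊓ N : Subgroup P)),
        f n * d * v * (f n * (d : P))⁻¹ = v * n := fun d n => by
      rw [mul_assoc (f n) (d : P) v, mem_centralizer_singleton_iff.mp d.2, ← hf n]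
      group
    refine Nat.card_le_card_of_injective (fun a : centralizer ({v} : Set P) × (stab χ ⊓ N : Subgroup P) =>
      (⟨f a.2 * a.1, Finset.mem_filter.mpr ⟨Finset.mem_univ _, by
        rw [hconj a.1 a.2]; exact mul_mem hv a.2.2.1⟩⟩ : T)) ?_
    rintro ⟨d, n⟩ ⟨d', n'⟩ he
    have he' : f n * (d : P) = f n' * (d' : P) := congrArg Subtype.val he
    have hn : n = n' := Subtype.ext (mul_left_cancel (a := v) (by
      rw [← hconj d n, ← hconj d' n', he']))
    subst hn
    exact Prod.ext (Subtype.ext (mul_left_cancel he')) rfl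
  have hS : Nat.card (stab χ) ≤ Nat.card (stab χ ⊓ N : Subgroup P) * m := by
    obtain ⟨φ, hφ⟩ : ∃ φ, φ = (QuotientGroup.mk' N).subgroupMap (stab χ) := ⟨_, rfl⟩
    rw [← φ.ker.card_mul_index, Subgroup.index_ker, MonoidHom.range_eq_top.mpr
      (hφ ▸ (QuotientGroup.mk' N).subgroupMap_surjective _), Subgroup.card_top]
    refine Nat.mul_le_mul (le_of_eq (Nat.card_congr ⟨fun x => ⟨x.1, x.1.2, ?_⟩,
      fun x => ⟨⟨x, x.2.1⟩, ?_⟩, fun x => rfl, fun x => rfl⟩)) ?_
    · exact (QuotientGroup.eq_one_iff _).mp (congrArg Subtype.val (hφ ▸ x.2 :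
        (QuotientGroup.mk' N).subgroupMap (stab χ) x.1 = 1))
    · subst hφ
      exact Subtype.ext ((QuotientGroup.eq_one_iff (x : P)).mpr x.2.2)
    · rw [hm, ← Nat.card_zpowers]
      exact Nat.le_of_dvd Nat.card_pos (Subgroup.card_dvd_of_le hle)
  have hC : c * m ≤ Nat.card (centralizer ({v} : Set P)) := by
    rw [hc, hm, ← Nat.card_fin (orderOf (v : P ⧸ N)), ← Nat.card_prod]
    refine Nat.card_le_card_of_injective
      (fun a : (A ⊓ centralizer ({v} : Set P) : Subgroup P) × Fin (orderOf (v : P ⧸ N)) =>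
        (⟨(a.1 : P) * v ^ (a.2 : ℕ), mul_mem a.1.2.2
          (pow_mem (mem_centralizer_singleton_iff.mpr rfl) _)⟩ : centralizer ({v} : Set P))) ?_
    rintro ⟨⟨a, ha⟩, i⟩ ⟨⟨b, hb⟩, j⟩ he
    have he' : a * v ^ (i : ℕ) = b * v ^ (j : ℕ) := congrArg Subtype.val he
    have h1 := congrArg (QuotientGroup.mk' N) he'
    simp only [map_mul, map_pow, QuotientGroup.mk'_apply,
      (QuotientGroup.eq_one_iff a).mpr (hAN ha.1), (QuotientGroup.eq_one_iff b).mpr (hAN hb.1),
      one_mul] at h1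
    have hij : i = j := Fin.ext (pow_injOn_Iio_orderOf i.2 j.2 h1)
    subst hij
    simp only [mul_left_inj] at he'
    subst he'
    rfl
  have hpos : 0 < Nat.card (stab χ ⊓ N : Subgroup P) * m :=
    Nat.mul_pos Nat.card_pos (hm ▸ orderOf_pos _)
  have : c ≤ F.card := by
    refine Nat.le_of_mul_le_mul_right ?_ hpos
    calc c * (Nat.card (stab χ ⊓ N : Subgroup P) * m)
        = c * m * Nat.card (stab χ ⊓ N : Subgroup P) := by ring
      _ ≤ Nat.card (centralizer ({v} : Set P)) * Nat.card (stab χ ⊓ N : Subgroup P) :=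
          Nat.mul_le_mul_right _ hC
      _ ≤ Nat.card (stab χ) * F.card := hT2.trans hT
      _ ≤ Nat.card (stab χ ⊓ N : Subgroup P) * m * F.card := Nat.mul_le_mul_right _ hS
      _ = F.card * (Nat.card (stab χ ⊓ N : Subgroup P) * m) := by ring
  omega

/-- An irreducible constituent of a representation. -/
theorem exists_constituent {A V : Type*} [Group A] [AddCommGroup V] [Module K V]
    [FiniteDimensional K V] [Nontrivial V] (ρ : Representation K A V) :
    ∃ (n : ℕ) (σ : Representation K A (Fin n → K)), Representation.IsIrreducible σ ∧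
      ∃ f : (Fin n → K) →ₗ[K] V, Function.Injective f ∧ ∀ a x, f (σ a x) = ρ a (f x) := by
  classical
  have hex : ∃ d, ∃ U : Submodule K V, U ≠ ⊥ ∧ (∀ a, ∀ x ∈ U, ρ a x ∈ U) ∧ finrank K U = d :=
    ⟨_, ⊤, top_ne_bot, fun _ _ _ => trivial, rfl⟩
  obtain ⟨U, hU0, hUinv, hUd⟩ := Nat.find_spec hex
  let τ : Subrepresentation ρ := ⟨U, fun a x hx => hUinv a x hx⟩
  haveI : Nontrivial τ.toSubmodule := Submodule.nontrivial_iff_ne_bot.mpr hU0
  let e := (Module.finBasis K τ.toSubmodule).equivFun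
  haveI : Nontrivial (Fin (finrank K τ.toSubmodule) → K) := e.injective.nontrivial
  have hinj : Function.Injective (τ.toSubmodule.subtype.comp e.symm.toLinearMap) := by
    rw [LinearMap.coe_comp]
    exact Subtype.val_injective.comp e.symm.injective
  refine ⟨_, transport τ.toRepresentation e, isIrreducible_of fun W hW => ?_,
    τ.toSubmodule.subtype.comp e.symm.toLinearMap, hinj, fun a x => by
      simp [transport_apply, Subrepresentation.toRepresentation, τ]⟩
  refine or_iff_not_imp_left.mpr fun hW0 => ?_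
  obtain ⟨W', hW'⟩ : ∃ W', W' = (W.map e.symm.toLinearMap).map τ.toSubmodule.subtype :=
    ⟨_, rfl⟩
  have hr : finrank K W' = finrank K W := by
    rw [hW', ← Submodule.map_comp]
    exact (Submodule.equivMapOfInjective _ hinj W).finrank_eq.symm
  have hmin := Nat.find_min' hex ⟨W', fun h0 => hW0 (Submodule.finrank_eq_zero.mp (by
    rw [← hr, h0, finrank_bot])), by
    intro a y hy
    rw [hW', ← Submodule.map_comp] at hy ⊢
    obtain ⟨x, hx, rfl⟩ := hy
    exact ⟨_, hW a x hx, by simp [transport_apply, Subrepresentation.toRepresentation, τ]⟩, rfl⟩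
  refine Submodule.eq_top_of_finrank_eq (le_antisymm (Submodule.finrank_le _) ?_)
  rw [Module.finrank_fin_fun, ← hr]
  exact le_trans (le_of_eq hUd) hmin

section Over

variable {A A₀ : Subgroup P} [A.Normal] [A₀.Normal]

/-- The characters of `A` lying over a representation of `A₀`. -/
def overSet {n : ℕ} (ρ₀ : Representation K A₀ (Fin n → K)) (hle : A₀ ≤ A) : Set (A → K) :=
  {χ | ∃ (m : ℕ) (ρ : Representation K A (Fin m → K)), Representation.IsIrreducible ρ ∧
    ρ.character = χ ∧ ∃ f : (Fin n → K) →ₗ[K] (Fin m → K), f ≠ 0 ∧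
      ∀ a x, f (ρ₀ a x) = ρ (Subgroup.inclusion hle a) (f x)}

/-- The stabiliser of the lower character permutes the characters over it. -/
theorem conjFun_mem_over [NeZero (Nat.card A₀ : K)] {n : ℕ}
    (ρ₀ : Representation K A₀ (Fin n → K)) [Representation.IsIrreducible ρ₀] (hle : A₀ ≤ A)
    {χ : A → K} (hχ : χ ∈ overSet ρ₀ hle) {g : P} (hg : g ∈ stab ρ₀.character) :
    conjFun g χ ∈ overSet ρ₀ hle := by
  obtain ⟨m, ρ, hρ, rfl, f, hf0, hf⟩ := hχ
  haveI := nontrivial_of_isIrreducible ρ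
  let σ := ρ₀.comp (MulAut.conjNormal g : MulAut A₀).toMonoidHom
  haveI : Representation.IsIrreducible σ := by
    haveI := nontrivial_of_isIrreducible ρ₀
    refine isIrreducible_of fun U hU => eq_bot_or_eq_top (ρ := ρ₀) U fun a x hx => ?_
    have h := hU ((MulAut.conjNormal g : MulAut A₀).symm a) x hx
    simpa [σ] using h
  obtain ⟨e⟩ := nonempty_equiv_of_character_eq σ ρ₀ (by funext a; exact congrFun hg a)
  refine ⟨m, ρ.comp (MulAut.conjNormal g : MulAut A).toMonoidHom, ?_, rfl,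
    f ∘ₗ (e.toLinearEquiv : (Fin n → K) →ₗ[K] (Fin n → K)), ?_, fun a x => ?_⟩
  · refine isIrreducible_of fun U hU => eq_bot_or_eq_top (ρ := ρ) U fun a x hx => ?_
    have h := hU ((MulAut.conjNormal g : MulAut A).symm a) x hx
    simpa using h
  · intro h0
    refine hf0 (LinearMap.ext fun x => ?_)
    have := congrArg (fun L => L (e.toLinearEquiv.symm x)) h0
    simp only [LinearMap.comp_apply, LinearMap.zero_apply] at this
    rw [show (e.toLinearEquiv : (Fin n → K) →ₗ[K] (Fin n → K)) (e.toLinearEquiv.symm x) = x from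
      e.toLinearEquiv.apply_symm_apply x] at this
    exact this
  · have h1 : e.toLinearEquiv (ρ₀ a x) = σ a (e.toLinearEquiv x) :=
      IntertwiningMap.isIntertwining ρ₀ σ e.toIntertwiningMap a x
    show f (e.toLinearEquiv (ρ₀ a x)) = _
    rw [h1]
    show f (ρ₀ (MulAut.conjNormal g a) (e.toLinearEquiv x)) = _
    rw [hf]
    rfl

/-- At most `p` characters lie over a given one when `A = A₀⟨b⟩` and `b ^ p ∈ A₀`. -/
theorem card_over_le [NeZero (Nat.card A₀ : K)] [NeZero (Nat.card A : K)] {n p : ℕ} (hp : 0 < p)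
    (ρ₀ : Representation K A₀ (Fin n → K)) [Representation.IsIrreducible ρ₀] (hle : A₀ ≤ A)
    (b : A) (hb : b ^ p ∈ A₀.subgroupOf A)
    (hgen : ∀ a : A, ∃ (a₀ : A₀) (k : ℕ), a = Subgroup.inclusion hle a₀ * b ^ k)
    {m₁ : ℕ} (ρ₁ : Representation K A (Fin m₁ → K)) [Representation.IsIrreducible ρ₁]
    (f₁ : (Fin n → K) →ₗ[K] (Fin m₁ → K)) (hf₁i : Function.Injective f₁)
    (hf₁ : ∀ a x, f₁ (ρ₀ a x) = ρ₁ (Subgroup.inclusion hle a) (f₁ x)) :
    (overSet ρ₀ hle).Finite ∧ (overSet ρ₀ hle).ncard ≤ p := by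
  classical
  haveI := Fintype.ofFinite A₀
  obtain ⟨π, hπ⟩ := f₁.exists_leftInverse_of_injective (LinearMap.ker_eq_bot.mpr hf₁i)
  obtain ⟨r, hr⟩ : ∃ r, r = (Nat.card A₀ : K)⁻¹ •
      ∑ a : A₀, ρ₀ a ∘ₗ π ∘ₗ ρ₁ (Subgroup.inclusion hle a⁻¹) := ⟨_, rfl⟩
  have hN : (Nat.card A₀ : K) ≠ 0 := NeZero.ne _
  have hrf : ∀ x, r (f₁ x) = x := by
    intro x
    rw [hr, LinearMap.smul_apply, LinearMap.sum_apply, Finset.sum_congr rfl (g := fun _ => x)
      fun a _ => ?_, Finset.sum_const, Finset.card_univ, ← Nat.cast_smul_eq_nsmul K, smul_smul,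
      ← Nat.card_eq_fintype_card, inv_mul_cancel₀ hN, one_smul]
    simp only [LinearMap.comp_apply]
    rw [← hf₁, show π (f₁ (ρ₀ a⁻¹ x)) = ρ₀ a⁻¹ x from LinearMap.congr_fun hπ _]
    exact Representation.self_inv_apply ρ₀ a x
  have hreq : ∀ (c : A₀) y, r (ρ₁ (Subgroup.inclusion hle c) y) = ρ₀ c (r y) := by
    intro c y
    rw [hr]
    simp only [LinearMap.smul_apply, LinearMap.sum_apply, LinearMap.comp_apply, map_smul, map_sum]
    congr 1
    refine Fintype.sum_equiv (Equiv.mulLeft c⁻¹) _ _ fun a => ?_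
    simp only [Equiv.coe_mulLeft]
    rw [← Module.End.mul_apply (ρ₁ _) (ρ₁ _), ← map_mul, ← map_mul,
      ← Module.End.mul_apply (ρ₀ c), ← map_mul, mul_inv_cancel_left, mul_inv_rev, inv_inv]
  have key : ∀ χ ∈ overSet ρ₀ hle, ∃ ζ : K, ζ ^ p = 1 ∧ ∃ (m : ℕ)
      (ρ : Representation K A (Fin m → K)), ρ.character = χ ∧
      ∃ h : (Fin m₁ → K) ≃ₗ[K] (Fin m → K),
        (∀ (a : A₀) y, h (ρ₁ (Subgroup.inclusion hle a) y) = ρ (Subgroup.inclusion hle a) (h y)) ∧
        ∀ y, ρ b (h y) = ζ • h (ρ₁ b y) := by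
    rintro χ ⟨m, ρ, hρ, rfl, f, hf0, hf⟩
    let I : Submodule K ((Fin m₁ → K) →ₗ[K] (Fin m → K)) :=
      { carrier := {h | ∀ (a : A₀) y,
          h (ρ₁ (Subgroup.inclusion hle a) y) = ρ (Subgroup.inclusion hle a) (h y)}
        zero_mem' := fun a y => by simp
        add_mem' := fun {h h'} h1 h2 a y => by
          simp only [LinearMap.add_apply, h1 a y, h2 a y, map_add]
        smul_mem' := fun c h h1 a y => by
          simp only [LinearMap.smul_apply, h1 a y, map_smul] }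
    have hconj : ∀ a : A₀, ∃ a' : A₀, b⁻¹ * Subgroup.inclusion hle a = Subgroup.inclusion hle a' * b⁻¹ := by
      intro a
      have hn : A₀.Normal := inferInstance
      refine ⟨⟨(b : P)⁻¹ * a * b, by simpa using hn.conj_mem a a.2 (b : P)⁻¹⟩, Subtype.ext ?_⟩
      show (b : P)⁻¹ * a = (b : P)⁻¹ * a * b * (b : P)⁻¹
      group
    have hmem : ∀ h ∈ I, ρ b ∘ₗ h ∘ₗ ρ₁ b⁻¹ ∈ I := by
      intro h hh a y
      obtain ⟨a', ha'⟩ := hconj a
      show ρ b (h (ρ₁ b⁻¹ (ρ₁ _ y))) = ρ _ (ρ b (h (ρ₁ b⁻¹ y)))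
      rw [← Module.End.mul_apply (ρ₁ b⁻¹), ← map_mul, ha', map_mul, Module.End.mul_apply, hh,
        ← Module.End.mul_apply (ρ b), ← map_mul, ← Module.End.mul_apply (ρ (Subgroup.inclusion hle a)),
        ← map_mul]
      congr 2
      calc b * Subgroup.inclusion hle a' = b * (Subgroup.inclusion hle a' * b⁻¹) * b := by group
        _ = b * (b⁻¹ * Subgroup.inclusion hle a) * b := by rw [ha']
        _ = Subgroup.inclusion hle a * b := by group
    obtain ⟨T, hT⟩ : ∃ T : ↥I →ₗ[K] ↥I, ∀ h : ↥I, (T h).1 = ρ b ∘ₗ h.1 ∘ₗ ρ₁ b⁻¹ :=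
      ⟨{ toFun := fun h => ⟨_, hmem h.1 h.2⟩
         map_add' := fun h h' => Subtype.ext (by simp [LinearMap.comp_add, LinearMap.add_comp])
         map_smul' := fun c h => Subtype.ext (by simp [LinearMap.comp_smul, LinearMap.smul_comp]) },
       fun h => rfl⟩
    have hI : (⟨f ∘ₗ r, fun a y => by simp [hreq, hf]⟩ : I) ≠ 0 := by
      intro h0
      refine hf0 (LinearMap.ext fun x => ?_)
      have := congrArg (fun h : I => h.1 (f₁ x)) h0
      simpa [hrf] using this
    haveI : Nontrivial I := ⟨⟨_, _, hI⟩⟩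
    obtain ⟨ζ, hζ⟩ := Module.End.exists_eigenvalue (K := K) (V := ↥I) T
    obtain ⟨⟨h, hh⟩, hev⟩ := hζ.exists_hasEigenvector
    have heq : ρ b ∘ₗ h ∘ₗ ρ₁ b⁻¹ = ζ • h := by
      rw [← hT ⟨h, hh⟩, hev.apply_eq_smul]; rfl
    have hne : h ≠ 0 := fun h0 => hev.2 (Subtype.ext h0)
    have hpow : ∀ k : ℕ, ρ (b ^ k) ∘ₗ h ∘ₗ ρ₁ (b ^ k)⁻¹ = ζ ^ k • h := by
      intro k
      induction k with
      | zero => simp [Module.End.one_eq_id]
      | succ k ih =>
        rw [pow_succ, mul_inv_rev, map_mul, map_mul, pow_succ, Module.End.mul_eq_comp,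
          Module.End.mul_eq_comp,
          show (ρ (b ^ k) ∘ₗ ρ b) ∘ₗ h ∘ₗ ρ₁ b⁻¹ ∘ₗ ρ₁ (b ^ k)⁻¹ =
            ρ (b ^ k) ∘ₗ (ρ b ∘ₗ h ∘ₗ ρ₁ b⁻¹) ∘ₗ ρ₁ (b ^ k)⁻¹ from rfl,
          heq, LinearMap.smul_comp, LinearMap.comp_smul, ih, smul_smul, mul_comm ζ]
    have hζp : ζ ^ p = 1 := by
      have h1 : ρ (b ^ p) ∘ₗ h ∘ₗ ρ₁ (b ^ p)⁻¹ = h := by
        refine LinearMap.ext fun y => ?_
        obtain ⟨a, ha⟩ : ∃ a : A₀, Subgroup.inclusion hle a = b ^ p :=
          ⟨⟨((b ^ p : A) : P), mem_subgroupOf.mp hb⟩, rfl⟩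
        simp only [LinearMap.comp_apply]
        rw [← ha, ← hh, Representation.self_inv_apply]
      rw [hpow] at h1
      exact smul_left_injective K hne (h1.trans (one_smul K h).symm)
    have hb' : ∀ y, ρ b (h y) = ζ • h (ρ₁ b y) := fun y => by
      have h1 := LinearMap.congr_fun heq (ρ₁ b y)
      simp only [LinearMap.comp_apply, LinearMap.smul_apply, Representation.inv_self_apply] at h1
      exact h1
    have hζ0 : ζ ≠ 0 := by
      rintro rfl
      rw [zero_pow hp.ne'] at hζp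
      exact zero_ne_one hζp
    have hinj : Function.Injective h := by
      rw [← LinearMap.ker_eq_bot]
      refine (eq_bot_or_eq_top (ρ := ρ₁) _ fun a y hy => ?_).resolve_right fun ht =>
        hne (LinearMap.ker_eq_top.mp ht)
      obtain ⟨a₀, k, rfl⟩ := hgen a
      have hk : ∀ (j : ℕ) y, h y = 0 → h (ρ₁ (b ^ j) y) = 0 := by
        intro j
        induction j with
        | zero => simp
        | succ j ih =>
          intro y hy
          rw [pow_succ, map_mul, Module.End.mul_apply]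
          refine ih _ ?_
          have h1 := hb' y
          rw [hy, map_zero] at h1
          exact (smul_eq_zero.mp h1.symm).resolve_left hζ0
      rw [LinearMap.mem_ker] at hy ⊢
      rw [map_mul, Module.End.mul_apply, hh, hk k y hy, map_zero]
    have hsurj : Function.Surjective h := by
      rw [← LinearMap.range_eq_top]
      refine (eq_bot_or_eq_top (ρ := ρ) _ fun a y hy => ?_).resolve_left fun ht =>
        hne (LinearMap.range_eq_bot.mp ht)
      obtain ⟨a₀, k, rfl⟩ := hgen a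
      have hk : ∀ (j : ℕ) y, y ∈ LinearMap.range h → ρ (b ^ j) y ∈ LinearMap.range h := by
        intro j
        induction j with
        | zero => simp
        | succ j ih =>
          intro y hy
          rw [pow_succ, map_mul, Module.End.mul_apply]
          refine ih _ ?_
          obtain ⟨x, rfl⟩ := hy
          exact ⟨ζ • ρ₁ b x, by rw [map_smul, hb']⟩
      obtain ⟨x, hx⟩ := hk k y hy
      rw [map_mul, Module.End.mul_apply, ← hx]
      exact ⟨_, hh a₀ x⟩
    exact ⟨ζ, hζp, m, ρ, rfl, LinearEquiv.ofBijective h ⟨hinj, hsurj⟩, hh, hb'⟩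
  choose! z hz using key
  let R : Finset K := (Polynomial.nthRoots p (1 : K)).toFinset
  have hmaps : ∀ χ ∈ overSet ρ₀ hle, z χ ∈ (R : Set K) := fun χ hχ => by
    simp [R, Polynomial.mem_nthRoots hp, (hz χ hχ).1]
  have hinj : Set.InjOn z (overSet ρ₀ hle) := by
    intro χ hχ χ' hχ' he
    obtain ⟨-, m, ρ, rfl, h, hA, hB⟩ := hz χ hχ
    obtain ⟨-, m', ρ', rfl, h', hA', hB'⟩ := hz χ' hχ'
    rw [← he] at hB'
    have hint : ∀ (a : A) y, h' (h.symm (ρ a y)) = ρ' a (h' (h.symm y)) := by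
      intro a
      obtain ⟨a₀, k, rfl⟩ := hgen a
      have hbk : ∀ (j : ℕ) y, h' (h.symm (ρ (b ^ j) y)) = ρ' (b ^ j) (h' (h.symm y)) := by
        intro j
        induction j with
        | zero => simp
        | succ j ih =>
          intro y
          rw [pow_succ, map_mul, Module.End.mul_apply, ih, map_mul, Module.End.mul_apply]
          congr 1
          obtain ⟨x, rfl⟩ := h.surjective y
          rw [hB, hB', map_smul, map_smul]
          simp
      intro y
      rw [map_mul, Module.End.mul_apply, map_mul, Module.End.mul_apply, ← hbk]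
      obtain ⟨x, hx⟩ := h.surjective (ρ (b ^ k) y)
      rw [← hx, ← hA, LinearEquiv.symm_apply_apply, LinearEquiv.symm_apply_apply, hA']
    exact Representation.char_iso (Representation.Equiv.mk (h.symm.trans h')
      fun a => LinearMap.ext fun y => hint a y)
  have hfin := Set.Finite.of_injOn hmaps hinj R.finite_toSet
  refine ⟨hfin, (Set.ncard_le_ncard_of_injOn z hmaps hinj R.finite_toSet).trans ?_⟩
  rw [Set.ncard_coe_finset]
  exact (Multiset.toFinset_card_le _).trans (Polynomial.card_nthRoots p 1)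

end Over

variable {p : ℕ} [hp : Fact p.Prime]

/-- The image of every stabiliser modulo `N` is non-cyclic. -/
theorem stab_not_cyclic (hP : IsPGroup p P) (N : Subgroup P) [N.Normal]
    (hcls : ∀ x, x ∉ N → ∀ n ∈ N, ∃ g : P, g * x * g⁻¹ = x * n) (hG : ¬ IsCyclic (P ⧸ N))
    (hK : ∀ A : Subgroup P, (Nat.card A : K) ≠ 0) :
    ∀ (A : Subgroup P) [A.Normal], A ≤ N → ∀ χ : A → K, IsIrrChar K χ →
      ¬ IsCyclic ((stab χ).map (QuotientGroup.mk' N)) := by
  intro A
  induction hd : Nat.card A using Nat.strong_induction_on generalizing A with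
  | _ d ih =>
  intro _ hAN χ hχ hcyc
  haveI : ∀ B : Subgroup P, NeZero (Nat.card B : K) := fun B => ⟨hK B⟩
  have htop : stab χ = ⊤ → False := fun ht => hG (by
    rw [ht, Subgroup.map_top_of_surjective _ (QuotientGroup.mk'_surjective N)] at hcyc
    exact isCyclic_of_surjective (Subgroup.topEquiv : (⊤ : Subgroup (P ⧸ N)) ≃* P ⧸ N).toMonoidHom
      (MulEquiv.surjective _))
  by_cases hA : A = ⊥
  · subst hA
    refine htop (eq_top_iff.mpr fun g _ => funext fun a => ?_)
    exact congrArg χ (Subsingleton.elim _ _)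
  by_cases hne : χ = fun _ => 1
  · subst hne
    exact htop (eq_top_iff.mpr fun g _ => funext fun a => rfl)
  -- a chief factor at the top of `A`
  obtain ⟨A₀, ⟨hA₀n, hA₀lt⟩, hmax⟩ := Set.Finite.exists_maximal
    (s := {B : Subgroup P | B.Normal ∧ B < A}) (Set.toFinite _) ⟨⊥, inferInstance, bot_lt_iff_ne_bot.mpr hA⟩
  haveI := hA₀n
  obtain ⟨b, hbA, hbA₀, hbp, hbc⟩ : ∃ b ∈ A, b ∉ A₀ ∧ b ^ p ∈ A₀ ∧ ∀ g : P, g * b * g⁻¹ * b⁻¹ ∈ A₀ := by
    obtain ⟨π, hπ⟩ : ∃ π, π = QuotientGroup.mk' A₀ := ⟨_, rfl⟩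
    have hπs : Function.Surjective π := hπ ▸ QuotientGroup.mk'_surjective A₀
    have hπ1 : ∀ {y}, π y = 1 ↔ y ∈ A₀ := fun {y} => by rw [hπ]; exact QuotientGroup.eq_one_iff y
    haveI : (A.map π).Normal := Subgroup.Normal.map inferInstance π hπs
    have hQ : IsPGroup p (P ⧸ A₀) := hP.to_quotient A₀
    haveI : Nontrivial (A.map π) := (Subgroup.nontrivial_iff_ne_bot _).mpr fun h => hA₀lt.not_ge
      fun a ha => hπ1.mp (mem_bot.mp (h ▸ mem_map_of_mem π ha))
    have hfix : ∃ y ∈ A.map π, y ≠ 1 ∧ y ∈ center (P ⧸ A₀) := by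
      by_contra hc
      push Not at hc
      letI : MulAction (ConjAct (P ⧸ A₀)) (A.map π) := inferInstance
      have h1 : p ∣ Nat.card (A.map π) := by
        obtain ⟨k, hk0, hk⟩ := (hQ.to_subgroup (A.map π)).nontrivial_iff_card.mp inferInstance
        exact hk ▸ dvd_pow_self p hk0.ne'
      obtain ⟨y, hy, hy1⟩ := (hQ.of_equiv ConjAct.toConjAct).exists_fixed_point_of_prime_dvd_card_of_fixed_point
        (A.map π) h1 (a := (1 : A.map π)) (fun g => smul_one g)
      refine hc y y.2 (fun h => hy1 (Subtype.ext h.symm)) (mem_center_iff.mpr fun g => ?_)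
      have h2 := congrArg Subtype.val (hy (ConjAct.toConjAct g))
      simp only [ConjAct.Subgroup.val_conj_smul, ConjAct.smul_def, ConjAct.ofConjAct_toConjAct] at h2
      exact mul_inv_eq_iff_eq_mul.mp h2
    obtain ⟨y, hyA, hy1, hyc⟩ := hfix
    haveI : Nontrivial (zpowers y) := (Subgroup.nontrivial_iff_ne_bot _).mpr (zpowers_ne_bot.mpr hy1)
    obtain ⟨⟨y', hy'⟩, ho⟩ := exists_prime_orderOf_dvd_card' (G := zpowers y) p (by
      obtain ⟨k, hk0, hk⟩ := (hQ.to_subgroup (zpowers y)).nontrivial_iff_card.mp inferInstance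
      exact hk ▸ dvd_pow_self p hk0.ne')
    rw [Subgroup.orderOf_mk] at ho
    obtain ⟨b, hbA, hb⟩ := zpowers_le.mpr hyA hy'
    refine ⟨b, hbA, fun h => ?_, hπ1.mp ?_, fun g => hπ1.mp ?_⟩
    · rw [← hb, hπ1.mpr h, orderOf_one] at ho
      exact hp.out.one_lt.ne ho
    · rw [map_pow, hb, ← ho, pow_orderOf_eq_one]
    · have h3 := mem_center_iff.mp (zpowers_le.mpr hyc hy') (π g)
      rw [map_mul, map_mul, map_mul, map_inv, map_inv, hb, h3, mul_inv_cancel_right, mul_inv_cancel]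
  have hgen : ∀ a : A, ∃ (a₀ : A₀) (k : ℕ),
      a = Subgroup.inclusion hA₀lt.le a₀ * (⟨b, hbA⟩ : A) ^ k := by
    have hn : (A₀ ⊔ zpowers b).Normal := by
      refine ⟨fun x hx g => ?_⟩
      obtain ⟨a, ha, _, ⟨i, rfl⟩, rfl⟩ := Subgroup.mem_sup_of_normal_left.mp hx
      rw [show g * (a * b ^ i) * g⁻¹ = g * a * g⁻¹ * (g * b * g⁻¹) ^ i by rw [conj_zpow]; group]
      refine mul_mem (mem_sup_left (hA₀n.conj_mem a ha g)) (zpow_mem ?_ _)
      rw [show g * b * g⁻¹ = g * b * g⁻¹ * b⁻¹ * b by group]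
      exact mul_mem (mem_sup_left (hbc g)) (mem_sup_right (mem_zpowers b))
    have heq : A₀ ⊔ zpowers b = A := by
      refine (sup_le hA₀lt.le (zpowers_le.mpr hbA)).eq_or_lt.resolve_right fun hlt => hbA₀ ?_
      exact hmax ⟨hn, hlt⟩ le_sup_left (mem_sup_right (mem_zpowers b))
    intro a
    obtain ⟨a₀, ha₀, z, hz, hza⟩ := Subgroup.mem_sup_of_normal_left.mp (heq.symm ▸ a.2 : (a : P) ∈ A₀ ⊔ zpowers b)
    obtain ⟨k, rfl⟩ := (isOfFinOrder_of_finite b).mem_powers_iff_mem_zpowers.mpr hz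
    exact ⟨⟨a₀, ha₀⟩, k, Subtype.ext hza.symm⟩
  -- a constituent below
  obtain ⟨m₁, ρ₁, hρ₁, hχ₁⟩ := hχ
  haveI := nontrivial_of_isIrreducible ρ₁
  obtain ⟨n, ρ₀, hρ₀, f₁, hf₁i, hf₁⟩ := exists_constituent (ρ₁.comp (Subgroup.inclusion hA₀lt.le))
  haveI := nontrivial_of_isIrreducible ρ₀
  have hbp' : (⟨b, hbA⟩ : A) ^ p ∈ A₀.subgroupOf A := mem_subgroupOf.mpr (by simpa using hbp)
  obtain ⟨hfin, hcard⟩ := card_over_le hp.out.pos ρ₀ hA₀lt.le ⟨b, hbA⟩ hbp' hgen ρ₁ f₁ hf₁i hf₁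
  obtain ⟨S₀, hS₀⟩ : ∃ S₀, S₀ = stab ρ₀.character := ⟨_, rfl⟩
  have hS₀nc : ¬ IsCyclic (S₀.map (QuotientGroup.mk' N)) :=
    hS₀ ▸ ih _ (hd ▸ Set.Finite.card_lt_card (Set.toFinite _) hA₀lt) A₀ rfl (hA₀lt.le.trans hAN)
      _ ⟨_, ρ₀, hρ₀, rfl⟩
  have hχmem : χ ∈ overSet ρ₀ hA₀lt.le := ⟨m₁, ρ₁, hρ₁, hχ₁, f₁, fun h0 => by
    obtain ⟨x, hx⟩ := exists_ne (0 : Fin n → K)
    exact hx (hf₁i (by rw [map_zero, h0, LinearMap.zero_apply])), hf₁⟩
  obtain ⟨y, hy⟩ := isCyclic_iff_exists_zpowers_eq_top.mp hcyc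
  obtain ⟨v, hv, hvy⟩ := y.2
  have hle : (stab χ).map (QuotientGroup.mk' N) ≤ zpowers (v : P ⧸ N) := by
    intro w hw
    obtain ⟨i, hi⟩ := mem_zpowers_iff.mp (hy ▸ mem_top (⟨w, hw⟩ : (stab χ).map (QuotientGroup.mk' N)))
    exact mem_zpowers_iff.mpr ⟨i, by
      rw [show (v : P ⧸ N) = (y : P ⧸ N) from hvy, ← coe_zpow, hi]⟩
  by_cases hvN : v ∈ N
  swap
  · exact false_of_stab_le hAN hcls ⟨_, ρ₁, hρ₁, hχ₁⟩ hne hv hvN hle
  have hSN : stab χ ≤ N := fun g hg => by
    have h1 := hle (mem_map_of_mem _ hg)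
    rw [(QuotientGroup.eq_one_iff v).mpr hvN, zpowers_one_eq_bot, mem_bot] at h1
    exact (QuotientGroup.eq_one_iff g).mp h1
  -- the image of `S₀` is small
  have hidx : ((stab χ).subgroupOf S₀).index ≤ p := by
    haveI := hfin.to_subtype
    refine le_trans ?_ hcard
    rw [Subgroup.index, ← Nat.card_coe_set_eq]
    refine Nat.card_le_card_of_injective (Quotient.lift (fun g : S₀ => (⟨conjFun (g : P)⁻¹ χ,
      conjFun_mem_over ρ₀ hA₀lt.le hχmem (hS₀ ▸ inv_mem g.2)⟩ : overSet ρ₀ hA₀lt.le)) ?_) ?_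
    · intro g g' h
      have h1 := mem_subgroupOf.mp (QuotientGroup.leftRel_apply.mp h)
      rw [coe_mul, coe_inv, mem_stab, conjFun_mul] at h1
      refine Subtype.ext ?_
      show conjFun (g : P)⁻¹ χ = conjFun (g' : P)⁻¹ χ
      conv_rhs => rw [← h1]
      rw [← conjFun_mul, ← conjFun_mul]
      congr 1
      group
    · intro q q' he
      induction q using Quotient.inductionOn with | h g => ?_
      induction q' using Quotient.inductionOn with | h g' => ?_
      have he' : conjFun (g : P)⁻¹ χ = conjFun (g' : P)⁻¹ χ := congrArg Subtype.val he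
      refine Quotient.sound (QuotientGroup.leftRel_apply.mpr (mem_subgroupOf.mpr ?_))
      rw [coe_mul, coe_inv, mem_stab, conjFun_mul, he', ← conjFun_mul, inv_mul_cancel, conjFun_one]
  refine hS₀nc ?_
  obtain ⟨φ, hφ⟩ : ∃ φ, φ = (QuotientGroup.mk' N).subgroupMap S₀ := ⟨_, rfl⟩
  have hcard₀ : Nat.card (S₀.map (QuotientGroup.mk' N)) ≤ p := by
    have h1 := Subgroup.index_ker φ
    rw [MonoidHom.range_eq_top.mpr (hφ ▸ (QuotientGroup.mk' N).subgroupMap_surjective _),
      Subgroup.card_top] at h1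
    rw [← h1]
    refine le_trans (Nat.le_of_dvd (Nat.pos_of_ne_zero index_ne_zero_of_finite)
      (Subgroup.index_dvd_of_le fun x hx => ?_)) hidx
    rw [hφ, MonoidHom.mem_ker]
    exact Subtype.ext ((QuotientGroup.eq_one_iff (x : P)).mpr (hSN (mem_subgroupOf.mp hx)))
  obtain ⟨k, hk⟩ := IsPGroup.iff_card.mp ((hP.to_quotient N).to_subgroup (S₀.map (QuotientGroup.mk' N)))
  rw [hk] at hcard₀
  have hk1 : k ≤ 1 := (Nat.pow_le_pow_iff_right hp.out.one_lt).mp (hcard₀.trans_eq (pow_one p).symm)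
  interval_cases k
  · haveI : Subsingleton (S₀.map (QuotientGroup.mk' N)) :=
      (Nat.card_eq_one_iff_unique.mp (hk.trans (pow_zero p))).1
    infer_instance
  · exact isCyclic_of_prime_card (hk.trans (pow_one p))

end Cfsg.Agent.Lib.CaminaPair.Linear
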