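import Mathlib
import Cfsg.Agent.Lib.CaminaPair.Linear.Stabiliser
import Cfsg.Agent.Lib.Elem69.PGroupSmall

/-!
For odd `p`, a `p`-group Camina pair `(P, N)` has no non-zero module over a field of characteristic
prime to `p` on which every element outside `N` acts without fixed points.
-/

set_option autoImplicit false

namespace Cfsg.Agent.Lib.CaminaPair.Linear

open Representation Module Subgroup

universe v u

variable {K : Type v} [Field K] [IsAlgClosed K]

/-- A normal subgroup of prime order of a `p`-group is central. -/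
theorem le_center_of_card_prime {T : Type u} [Group T] [Finite T] {p : ℕ} [hp : Fact p.Prime]
    (hT : IsPGroup p T) (H : Subgroup T) [H.Normal] (hH : Nat.card H = p) : H ≤ center T := by
  obtain ⟨y, hy, hy1⟩ := (hT.of_equiv ConjAct.toConjAct).exists_fixed_point_of_prime_dvd_card_of_fixed_point
    H hH.symm.dvd (a := (1 : H)) (fun g => smul_one g)
  have h1 : (y : T) ∈ center T := mem_center_iff.mpr fun g => by
    have h2 := congrArg Subtype.val (hy (ConjAct.toConjAct g))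
    simp only [ConjAct.Subgroup.val_conj_smul, ConjAct.smul_def, ConjAct.ofConjAct_toConjAct] at h2
    exact mul_inv_eq_iff_eq_mul.mp h2
  have h3 : zpowers (y : T) = H := by
    refine Subgroup.eq_of_le_of_card_ge (zpowers_le.mpr y.2) ?_
    rw [hH, Nat.card_zpowers]
    refine ((hp.out.eq_one_or_self_of_dvd _ (hH ▸ H.orderOf_dvd_natCard y.2)).resolve_left ?_).ge
    exact fun h => hy1 (Subtype.ext (orderOf_eq_one_iff.mp h).symm)
  exact h3 ▸ zpowers_le.mpr h1

/-- The inductive core. -/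
theorem false_of_scalar_centre {p : ℕ} [hp : Fact p.Prime] (hp2 : p ≠ 2) (hpK : (p : K) ≠ 0) :
    ∀ (T : Type u) [Group T] [Finite T], IsPGroup p T → ∀ (N : Subgroup T) [N.Normal],
      ¬ IsCyclic (T ⧸ N) → ∀ {W : Type v} [AddCommGroup W] [Module K W] [FiniteDimensional K W]
        [Nontrivial W] (ρ : Representation K T W),
        (∀ x, x ∉ N → ∀ w, ρ x w = w → w = 0) →
        (∀ X ∈ Algebra.adjoin K (ρ '' (N : Set T)), (∀ n ∈ N, X * ρ n = ρ n * X) →
          ∃ s : K, X = s • 1) → False := by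
  intro T
  induction hn : Nat.card T using Nat.strong_induction_on generalizing T with
  | _ n ih =>
  intro _ _ hT N _ hG W _ _ _ _ ρ hfix hcond
  classical
  obtain ⟨w₀, hw₀⟩ := exists_ne (0 : W)
  by_cases hker : ρ.ker = ⊥
  swap
  · -- pass to the image
    have hkerN : ρ.ker ≤ N := fun x hx => by
      by_contra hxN
      exact hw₀ (hfix x hxN w₀ (by rw [MonoidHom.mem_ker.mp hx]; rfl))
    obtain ⟨π, hπ⟩ : ∃ π, π = QuotientGroup.mk' ρ.ker := ⟨_, rfl⟩
    have hπs : Function.Surjective π := hπ ▸ QuotientGroup.mk'_surjective _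
    haveI : (N.map π).Normal := Subgroup.Normal.map inferInstance π hπs
    let ρ' : Representation K (T ⧸ ρ.ker) W := QuotientGroup.lift ρ.ker ρ le_rfl
    have hρ' : ∀ x, ρ' (π x) = ρ x := fun x => by subst hπ; rfl
    refine ih _ ?_ (T ⧸ ρ.ker) rfl (hT.to_quotient _) (N.map π) (fun hc => hG ?_) ρ' ?_ ?_
    · rw [← hn, ← ρ.ker.index_eq_card, ← ρ.ker.card_mul_index]
      exact lt_mul_of_one_lt_left (Nat.pos_of_ne_zero index_ne_zero_of_finite)
        (ρ.ker.one_lt_card_iff_ne_bot.mpr hker)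
    · subst hπ
      exact isCyclic_of_surjective (QuotientGroup.quotientQuotientEquivQuotient ρ.ker N hkerN).toMonoidHom
        (MulEquiv.surjective _)
    · intro y hy w hw
      obtain ⟨x, rfl⟩ := hπs y
      exact hfix x (fun hx => hy (mem_map_of_mem π hx)) w (by rw [← hρ']; exact hw)
    · intro X hX hcomm
      refine hcond X ?_ fun n hn => ?_
      · refine Algebra.adjoin_mono ?_ hX
        rintro _ ⟨_, ⟨x, hx, rfl⟩, rfl⟩
        exact ⟨x, hx, (hρ' x).symm⟩
      · rw [← hρ']; exact hcomm _ (mem_map_of_mem π hn)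
  have hinj : ∀ x, ρ x = 1 → x = 1 := fun x hx => mem_bot.mp (hker ▸ MonoidHom.mem_ker.mpr hx)
  have hscal : ∀ x ∈ N, x ∈ center T → ∃ s : K, ρ x = s • 1 := fun x hx hxc =>
    hcond _ (Algebra.subset_adjoin ⟨x, hx, rfl⟩) fun m _ => by
      rw [← map_mul, ← map_mul, mem_center_iff.mp hxc m]
  have hnc : ¬ IsCyclic T := fun hc => hG
    (isCyclic_of_surjective (QuotientGroup.mk' N) (QuotientGroup.mk'_surjective N))
  obtain ⟨A, hAn, hAel, hAcard, z, hzA, hzc, hzo⟩ := Elem69.exists_normal_elementary_sq hp2 hT hnc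
  haveI := hAn
  have hzp : z ^ p = 1 := hzo ▸ pow_orderOf_eq_one z
  obtain ⟨a, haA, haz⟩ : ∃ a ∈ A, a ∉ zpowers z := by
    refine SetLike.exists_of_lt (lt_of_le_of_ne (zpowers_le.mpr hzA) fun he => ?_)
    rw [← he, Nat.card_zpowers, hzo] at hAcard
    have := hp.out.two_le
    nlinarith
  have hap : a ^ p = 1 := hAel.2 a haA
  have hza : a * z = z * a := mem_center_iff.mp hzc a
  -- a common eigenvector
  obtain ⟨ω, hω⟩ := Module.End.exists_eigenvalue (ρ z)
  have hrootOf : ∀ (x : T), x ^ p = 1 → ∀ (s : K) (w : W), w ≠ 0 → ρ x w = s • w → s ^ p = 1 := by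
    intro x hx s w hw hxw
    have h1 : ∀ k : ℕ, ρ (x ^ k) w = s ^ k • w := by
      intro k
      induction k with
      | zero => simp
      | succ k ih => rw [pow_succ, map_mul, Module.End.mul_apply, hxw, map_smul, ih, smul_smul, pow_succ']
    have h2 := h1 p
    rw [hx, map_one, Module.End.one_apply] at h2
    exact smul_left_injective K hw (h2.symm.trans (one_smul K w).symm)
  have hzcomm : ∀ x, ∀ w ∈ End.eigenspace (ρ z) ω, ρ x w ∈ End.eigenspace (ρ z) ω := by
    intro x w hw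
    rw [End.mem_eigenspace_iff] at hw ⊢
    rw [← Module.End.mul_apply, ← map_mul, ← mem_center_iff.mp hzc x, map_mul, Module.End.mul_apply, hw,
      map_smul]
  haveI : Nontrivial (End.eigenspace (ρ z) ω) := Submodule.nontrivial_iff_ne_bot.mpr hω
  obtain ⟨al, hal⟩ := Module.End.exists_eigenvalue ((ρ a).restrict (hzcomm a))
  obtain ⟨⟨w, hwz⟩, hwa'⟩ := hal.exists_hasEigenvector
  have hw : w ≠ 0 := fun h0 => hwa'.2 (Subtype.ext h0)
  have hwa : ρ a w = al • w := congrArg Subtype.val hwa'.apply_eq_smul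
  rw [End.mem_eigenspace_iff] at hwz
  have hωp : ω ^ p = 1 := hrootOf z hzp ω w hw hwz
  have halp : al ^ p = 1 := hrootOf a hap al w hw hwa
  have hz1 : z ≠ 1 := fun h => hp.out.one_lt.ne (by rw [← hzo, h, orderOf_one])
  have hfixw : ∀ x ∈ N, x ∈ center T → ρ x w = w → x = 1 := by
    intro x hx hxc hxw
    obtain ⟨s, hs⟩ := hscal x hx hxc
    rw [hs, LinearMap.smul_apply, Module.End.one_apply] at hxw
    have hs1 : s = 1 := smul_left_injective K hw (hxw.trans (one_smul K w).symm)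
    exact hinj x (by rw [hs, hs1, one_smul])
  have hω1 : ω ≠ 1 := by
    rintro rfl
    rw [one_smul] at hwz
    by_cases hzN : z ∈ N
    · exact hz1 (hfixw z hzN hzc hwz)
    · exact hw (hfix z hzN w hwz)
  have hωprim : IsPrimitiveRoot ω p := by
    rw [← orderOf_eq_prime hωp hω1]
    exact IsPrimitiveRoot.orderOf ω
  obtain ⟨j, -, hj⟩ := hωprim.eq_pow_of_pow_eq_one halp
  have hzpow : ∀ k : ℕ, ρ (z ^ k) w = ω ^ k • w := by
    intro k
    induction k with
    | zero => simp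
    | succ k ih => rw [pow_succ, map_mul, Module.End.mul_apply, hwz, map_smul, ih, smul_smul, pow_succ']
  obtain ⟨u, hu⟩ : ∃ u, u = a * (z ^ j)⁻¹ := ⟨_, rfl⟩
  have huw : ρ u w = w := by
    have h1 : ρ (z ^ j)⁻¹ (ω ^ j • w) = w := by
      rw [← hzpow j, Representation.inv_self_apply]
    rw [hu, show a * (z ^ j)⁻¹ = (z ^ j)⁻¹ * a from
      mem_center_iff.mp (inv_mem (pow_mem hzc j)) a, map_mul, Module.End.mul_apply, hwa, ← hj, h1]
  have huN : u ∈ N := by
    by_contra h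
    exact hw (hfix u h w huw)
  have huz : u ∉ zpowers z := fun h => haz (by
    have := mul_mem h (pow_mem (mem_zpowers z) j)
    rwa [hu, inv_mul_cancel_right] at this)
  have hzN : z ∈ N := by
    by_contra hzN
    have huA : u ∈ A := hu ▸ mul_mem haA (inv_mem (pow_mem hzA j))
    have hlt : A ⊓ N < A := lt_of_le_of_ne inf_le_left fun h => hzN (inf_eq_left.mp h hzA)
    have hcard : Nat.card (A ⊓ N : Subgroup T) = p := by
      obtain ⟨k, hk2, hk⟩ := (Nat.dvd_prime_pow hp.out).mp (hAcard ▸ Subgroup.card_dvd_of_le (inf_le_left (b := N)))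
      have hne1 : Nat.card (A ⊓ N : Subgroup T) ≠ 1 := fun h => huz (by
        have hu' : u ∈ A ⊓ N := ⟨huA, huN⟩
        rw [Subgroup.card_eq_one.mp h, mem_bot] at hu'
        rw [hu']; exact one_mem _)
      have hne2 : Nat.card (A ⊓ N : Subgroup T) ≠ p ^ 2 := fun h =>
        hlt.ne (Subgroup.eq_of_le_of_card_ge inf_le_left (hAcard.le.trans h.ge))
      interval_cases k
      · exact absurd (hk.trans (pow_zero p)) hne1
      · exact hk.trans (pow_one p)
      · exact absurd hk hne2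
    have huc : u ∈ center T := le_center_of_card_prime hT _ hcard (mem_inf.mpr ⟨huA, huN⟩)
    exact huz (by rw [hfixw u huN huc huw]; exact one_mem _)
  have haN : a ∈ N := by
    have := mul_mem huN (pow_mem hzN j)
    rwa [hu, inv_mul_cancel_right] at this
  obtain ⟨ω', hω'⟩ := hscal z hzN hzc
  have hωω' : ω' = ω := smul_left_injective K hw (by
    show ω' • w = ω • w
    rw [← hwz, hω']; rfl)
  subst hωω'
  -- conjugates of `a`
  have hconj : ∀ g : T, ∃ k : ℕ, g * a * g⁻¹ = z ^ k * a := by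
    intro g
    haveI : (zpowers z).Normal := ⟨fun x hx g => by
      rw [mem_center_iff.mp (zpowers_le.mpr hzc hx) g, mul_inv_cancel_right]; exact hx⟩
    obtain ⟨π, hπ⟩ : ∃ π, π = QuotientGroup.mk' (zpowers z) := ⟨_, rfl⟩
    have hπs : Function.Surjective π := hπ ▸ QuotientGroup.mk'_surjective _
    have hπ1 : ∀ {y}, π y = 1 ↔ y ∈ zpowers z := fun {y} => by rw [hπ]; exact QuotientGroup.eq_one_iff y
    haveI : (A.map π).Normal := Subgroup.Normal.map inferInstance π hπs
    have hcard : Nat.card (A.map π) = p := by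
      obtain ⟨φ, hφ⟩ : ∃ φ, φ = π.subgroupMap A := ⟨_, rfl⟩
      have h1 := φ.ker.card_mul_index
      rw [Subgroup.index_ker, MonoidHom.range_eq_top.mpr (hφ ▸ π.subgroupMap_surjective A),
        Subgroup.card_top, hAcard] at h1
      have h2 : Nat.card φ.ker = p := by
        rw [← hzo, ← Nat.card_zpowers]
        refine Nat.card_congr ⟨fun x => ⟨x.1, hπ1.mp (congrArg Subtype.val (hφ ▸ x.2 :
          π.subgroupMap A x.1 = 1))⟩, fun x => ⟨⟨x, zpowers_le.mpr hzA x.2⟩, ?_⟩,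
          fun x => rfl, fun x => rfl⟩
        subst hφ
        exact Subtype.ext (hπ1.mpr x.2)
      rw [h2, pow_two] at h1
      exact Nat.eq_of_mul_eq_mul_left hp.out.pos h1
    have h3 := le_center_of_card_prime (hT.to_quotient _) _ hcard (hπ ▸ mem_map_of_mem π haA :
      π a ∈ A.map π)
    have h4 : g * a * g⁻¹ * a⁻¹ ∈ zpowers z := hπ1.mp (by
      rw [map_mul, map_mul, map_mul, map_inv, map_inv, mem_center_iff.mp h3 (π g), mul_inv_cancel_right,
        mul_inv_cancel])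
    obtain ⟨k, hk⟩ := (isOfFinOrder_of_finite z).mem_powers_iff_mem_zpowers.mpr h4
    exact ⟨k, by rw [show z ^ k = g * a * g⁻¹ * a⁻¹ from hk, inv_mul_cancel_right]⟩
  have hconjpow : ∀ (g : T) (k : ℕ), g * a * g⁻¹ = z ^ k * a → ∀ i : ℕ,
      g ^ i * a * (g ^ i)⁻¹ = z ^ (k * i) * a := by
    intro g k hg i
    induction i with
    | zero => simp
    | succ i ih =>
      calc g ^ (i + 1) * a * (g ^ (i + 1))⁻¹ = g * (g ^ i * a * (g ^ i)⁻¹) * g⁻¹ := by rw [pow_succ']; group
        _ = g * z ^ (k * i) * a * g⁻¹ := by rw [ih]; group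
        _ = z ^ (k * i) * (g * a * g⁻¹) := by rw [mem_center_iff.mp (pow_mem hzc (k * i)) g]; group
        _ = z ^ (k * (i + 1)) * a := by rw [hg, ← mul_assoc, ← pow_add, Nat.mul_succ]
  obtain ⟨b, hbN, hb⟩ : ∃ b ∈ N, b * a * b⁻¹ = z * a := by
    by_contra hc
    push Not at hc
    have hcen : ∀ m ∈ N, m * a = a * m := by
      intro m hm
      obtain ⟨k, hk⟩ := hconj m
      by_cases hkp : p ∣ k
      · obtain ⟨l, rfl⟩ := hkp
        rw [pow_mul, hzp, one_pow, one_mul, mul_inv_eq_iff_eq_mul] at hk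
        exact hk
      · exfalso
        obtain ⟨l, -, hl⟩ := Nat.exists_mul_mod_eq_one_of_coprime
          ((hp.out.coprime_iff_not_dvd.mpr hkp).symm) hp.out.one_lt
        refine hc (m ^ l) (pow_mem hm _) ?_
        rw [hconjpow m k hk l, ← pow_mod_orderOf, hzo, hl, pow_one]
    obtain ⟨s, hs⟩ := hcond _ (Algebra.subset_adjoin ⟨a, haN, rfl⟩) fun m hm => by
      rw [← map_mul, ← map_mul, hcen m hm]
    have hsal : s = al := smul_left_injective K hw (by
      show s • w = al • w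
      rw [← hwa, hs]; rfl)
    refine haz ?_
    have h1 : u = 1 := hinj u (LinearMap.ext fun y => by
      have hy : ∀ y, ρ (z ^ j) y = ω' ^ j • y := fun y => by
        rw [map_pow, hω', smul_pow, one_pow]; rfl
      rw [hu, Module.End.one_apply, show a * (z ^ j)⁻¹ = (z ^ j)⁻¹ * a from
        mem_center_iff.mp (inv_mem (pow_mem hzc j)) a, map_mul, Module.End.mul_apply, hs,
        hsal, LinearMap.smul_apply, Module.End.one_apply, ← hj, ← hy y, Representation.inv_self_apply])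
    exact absurd (h1 ▸ one_mem (zpowers z)) huz
  have hbpow : ∀ i : ℕ, b ^ i * a * (b ^ i)⁻¹ = z ^ i * a := fun i => by
    simpa using hconjpow b 1 (by rwa [pow_one]) i
  obtain ⟨C, hC⟩ : ∃ C, C = centralizer ({a} : Set T) := ⟨_, rfl⟩
  have hCmem : ∀ {g}, g ∈ C ↔ g * a = a * g := fun {g} => by
    rw [hC, mem_centralizer_singleton_iff]
  have hdecomp : ∀ g : T, ∃ (i : ℕ) (c : T), c ∈ C ∧ g = b ^ i * c := by
    intro g
    obtain ⟨k, hk⟩ := hconj g
    refine ⟨k, (b ^ k)⁻¹ * g, hCmem.mpr ?_, (mul_inv_cancel_left _ _).symm⟩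
    have h1 := hk.trans (hbpow k).symm
    calc (b ^ k)⁻¹ * g * a = (b ^ k)⁻¹ * (g * a * g⁻¹) * g := by group
      _ = (b ^ k)⁻¹ * (b ^ k * a * (b ^ k)⁻¹) * g := by rw [h1]
      _ = a * ((b ^ k)⁻¹ * g) := by group
  have hbC : b ∉ C := fun h => hz1 (by
    rw [hCmem.mp h, mul_inv_cancel_right] at hb
    exact (mul_eq_right.mp hb.symm))
  have hCconj : ∀ c ∈ C, ∀ i : ℕ, (b ^ i)⁻¹ * c * b ^ i ∈ C := by
    intro c hc i
    refine hCmem.mpr ?_
    have h1 : c * (z ^ i * a) = z ^ i * a * c := by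
      rw [← mul_assoc, mem_center_iff.mp (pow_mem hzc i) c, mul_assoc, hCmem.mp hc, mul_assoc]
    rw [← hbpow i] at h1
    calc (b ^ i)⁻¹ * c * b ^ i * a = (b ^ i)⁻¹ * (c * (b ^ i * a * (b ^ i)⁻¹)) * b ^ i := by group
      _ = (b ^ i)⁻¹ * (b ^ i * a * (b ^ i)⁻¹ * c) * b ^ i := by rw [h1]
      _ = a * ((b ^ i)⁻¹ * c * b ^ i) := by group
  -- the eigenspace
  obtain ⟨W₁, hW₁⟩ : ∃ W₁, W₁ = End.eigenspace (ρ a) al := ⟨_, rfl⟩
  have hW₁mem : ∀ {y}, y ∈ W₁ ↔ ρ a y = al • y := fun {y} => by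
    rw [hW₁, End.mem_eigenspace_iff]
  have hinv : ∀ c ∈ C, ∀ y ∈ W₁, ρ c y ∈ W₁ := by
    intro c hc y hy
    rw [hW₁mem] at hy ⊢
    rw [← Module.End.mul_apply, ← map_mul, ← hCmem.mp hc, map_mul, Module.End.mul_apply, hy, map_smul]
  haveI : Nontrivial W₁ := ⟨⟨⟨w, hW₁mem.mpr hwa⟩, 0, fun h => hw (congrArg Subtype.val h)⟩⟩
  let ρ₁ : Representation K C W₁ :=
    { toFun := fun c => (ρ (c : T)).restrict (hinv c c.2)
      map_one' := LinearMap.ext fun y => Subtype.ext (by simp [LinearMap.restrict_apply])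
      map_mul' := fun c d => LinearMap.ext fun y => Subtype.ext (by simp [LinearMap.restrict_apply]) }
  have hρ₁ : ∀ (c : C) (y : W₁), (ρ₁ c y : W) = ρ c y := fun c y => rfl
  refine ih (Nat.card C) ?_ C rfl (hT.to_subgroup C) (N.subgroupOf C) (fun hcy => hG ?_) ρ₁
    (fun x hx y hy => Subtype.ext (hfix x (fun h => hx (mem_subgroupOf.mpr h)) y
      (congrArg Subtype.val hy))) ?_
  · rw [← hn]
    exact Finite.card_subtype_lt (x := b) hbC
  · obtain ⟨f, hf⟩ : ∃ f : C ⧸ N.subgroupOf C →* T ⧸ N, f =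
        QuotientGroup.map (N.subgroupOf C) N C.subtype (fun x hx => hx) := ⟨_, rfl⟩
    refine isCyclic_of_surjective f fun y => ?_
    obtain ⟨g, rfl⟩ := QuotientGroup.mk'_surjective N y
    obtain ⟨i, c, hc, rfl⟩ := hdecomp g
    refine ⟨QuotientGroup.mk' _ ⟨c, hc⟩, ?_⟩
    rw [hf]
    refine Eq.trans (b := QuotientGroup.mk' N c) rfl ?_
    rw [map_mul, (QuotientGroup.eq_one_iff (b ^ i)).mpr (pow_mem hbN i) |>
      fun h => (show QuotientGroup.mk' N (b ^ i) = 1 from h), one_mul]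
  intro X₁ hX₁ hcomm₁
  obtain ⟨X, hXmem, hX⟩ : ∃ X ∈ Algebra.adjoin K (ρ '' ((N ⊓ C : Subgroup T) : Set T)),
      ∀ y : W₁, X y = X₁ y := by
    clear hcomm₁
    induction hX₁ using Algebra.adjoin_induction with
    | mem x hx =>
      obtain ⟨c, hc, rfl⟩ := hx
      exact ⟨ρ c, Algebra.subset_adjoin ⟨c, ⟨mem_subgroupOf.mp hc, c.2⟩, rfl⟩, fun y => rfl⟩
    | algebraMap r => exact ⟨algebraMap K _ r, Subalgebra.algebraMap_mem _ r, fun y => rfl⟩
    | add x y _ _ hx hy =>
      obtain ⟨X, hX, hXe⟩ := hx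
      obtain ⟨Y, hY, hYe⟩ := hy
      exact ⟨X + Y, add_mem hX hY, fun y => by simp [hXe, hYe]⟩
    | mul x y _ _ hx hy =>
      obtain ⟨X, hX, hXe⟩ := hx
      obtain ⟨Y, hY, hYe⟩ := hy
      exact ⟨X * Y, mul_mem hX hY, fun v => by simp [Module.End.mul_apply, hYe, hXe]⟩
  -- the projection
  obtain ⟨Ek, hEk⟩ : ∃ Ek : ℕ → Module.End K W, Ek = fun i =>
      (p : K)⁻¹ • ∑ k ∈ Finset.range p, (al⁻¹ * ω' ^ i) ^ k • ρ (a ^ k) := ⟨_, rfl⟩
  have hal0 : al ≠ 0 := by rintro rfl; rw [zero_pow hp.out.ne_zero] at halp; exact zero_ne_one halp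
  have hzi : ∀ i : ℕ, ρ (z ^ i) = ω' ^ i • (1 : Module.End K W) := fun i => by
    rw [map_pow, hω', smul_pow, one_pow]
  have hEb : ∀ i : ℕ, ρ (b ^ i) * Ek 0 * ρ (b ^ i)⁻¹ = Ek i := by
    intro i
    rw [hEk]
    simp only [mul_smul_comm, smul_mul_assoc, Finset.mul_sum, Finset.sum_mul, pow_zero, mul_one]
    congr 1
    refine Finset.sum_congr rfl fun k _ => ?_
    rw [← map_mul, ← map_mul, ← conj_pow, hbpow,
      (show Commute (z ^ i) a from ((mem_center_iff.mp (pow_mem hzc i) a)).symm).mul_pow, map_mul,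
      ← pow_mul, hzi, smul_one_mul, smul_smul, pow_mul, mul_pow]
  have hEsum : ∑ i ∈ Finset.range p, Ek i = 1 := by
    rw [hEk, ← Finset.smul_sum, Finset.sum_comm, Finset.sum_eq_single 0 (fun k hk hk0 => ?_)
      (fun h => absurd (Finset.mem_range.mpr hp.out.pos) h)]
    · simp [← Nat.cast_smul_eq_nsmul K, smul_smul, hpK]
    · rw [← Finset.sum_smul]
      refine (congrArg (· • ρ (a ^ k)) ?_).trans (zero_smul K _)
      have hne : ω' ^ k ≠ 1 := fun h => by
        have := Nat.le_of_dvd (Nat.pos_of_ne_zero hk0) (hωprim.dvd_of_pow_eq_one k h)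
        exact absurd (Finset.mem_range.mp hk) (not_lt.mpr this)
      have hg := geom_sum_eq hne p
      rw [← pow_mul, mul_comm k p, pow_mul, hωp, one_pow, sub_self, zero_div] at hg
      simp_rw [mul_pow, ← pow_mul, mul_comm _ k, pow_mul, ← Finset.mul_sum, hg, mul_zero]
  have hEimg : ∀ y, Ek 0 y ∈ W₁ := by
    intro y
    rw [hW₁mem, hEk]
    simp only [LinearMap.smul_apply, LinearMap.sum_apply, map_smul, map_sum, pow_zero, mul_one]
    rw [smul_comm al]
    congr 1
    rw [Finset.smul_sum]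
    have hstep : ∀ k, (al⁻¹) ^ k • ρ a (ρ (a ^ k) y) = al • ((al⁻¹) ^ (k + 1) • ρ (a ^ (k + 1)) y) := by
      intro k
      rw [smul_smul, pow_succ' a, map_mul, Module.End.mul_apply, pow_succ' (al⁻¹), ← mul_assoc,
        mul_inv_cancel₀ hal0, one_mul]
    simp only [hstep]
    rw [← Finset.smul_sum, ← Finset.smul_sum]
    congr 1
    have h1 := Finset.sum_range_succ' (fun k => (al⁻¹) ^ k • ρ (a ^ k) y) p
    rw [Finset.sum_range_succ, hap, inv_pow, halp, inv_one] at h1
    simpa using h1.symm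
  have hEfix : ∀ y ∈ W₁, Ek 0 y = y := by
    intro y hy
    rw [hW₁mem] at hy
    have h1 : ∀ k, ρ (a ^ k) y = al ^ k • y := by
      intro k
      induction k with
      | zero => simp
      | succ k ih => rw [pow_succ, map_mul, Module.End.mul_apply, hy, map_smul, ih, smul_smul, pow_succ']
    rw [hEk]
    simp only [LinearMap.smul_apply, LinearMap.sum_apply, pow_zero, mul_one, h1, smul_smul, ← mul_pow,
      inv_mul_cancel₀ hal0, one_pow, one_smul, Finset.sum_const, Finset.card_range]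
    rw [← Nat.cast_smul_eq_nsmul K, smul_smul, inv_mul_cancel₀ hpK, one_smul]
  have hEkill : ∀ i ∈ Finset.range p, i ≠ 0 → ∀ y ∈ W₁, Ek i y = 0 := by
    intro i hi hi0 y hy
    rw [hW₁mem] at hy
    have h1 : ∀ k, ρ (a ^ k) y = al ^ k • y := by
      intro k
      induction k with
      | zero => simp
      | succ k ih => rw [pow_succ, map_mul, Module.End.mul_apply, hy, map_smul, ih, smul_smul, pow_succ']
    have hne : ω' ^ i ≠ 1 := fun h => by
      have := Nat.le_of_dvd (Nat.pos_of_ne_zero hi0) (hωprim.dvd_of_pow_eq_one i h)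
      exact absurd (Finset.mem_range.mp hi) (not_lt.mpr this)
    have hg := geom_sum_eq hne p
    rw [← pow_mul, mul_comm i p, pow_mul, hωp, one_pow, sub_self, zero_div] at hg
    rw [hEk]
    simp only [LinearMap.smul_apply, LinearMap.sum_apply, h1, smul_smul, ← mul_pow]
    rw [← Finset.sum_smul, show al⁻¹ * ω' ^ i * al = ω' ^ i by field_simp, hg, zero_smul, smul_zero]
  -- the central element
  obtain ⟨Y, hY⟩ : ∃ Y, Y = X * Ek 0 := ⟨_, rfl⟩
  have haC : a ∈ C := hCmem.mpr rfl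
  have hadj : ∀ {X'}, X' ∈ Algebra.adjoin K (ρ '' ((N ⊓ C : Subgroup T) : Set T)) →
      X' ∈ Algebra.adjoin K (ρ '' (N : Set T)) := fun h =>
    Algebra.adjoin_mono (Set.image_mono (inf_le_left : N ⊓ C ≤ N)) h
  have hYmem : Y ∈ Algebra.adjoin K (ρ '' (N : Set T)) := by
    rw [hY, hEk]
    exact mul_mem (hadj hXmem) (Subalgebra.smul_mem _ (sum_mem fun k _ =>
      Subalgebra.smul_mem _ (Algebra.subset_adjoin (R := K) (s := ρ '' (N : Set T))
        ⟨a ^ k, pow_mem haN k, rfl⟩) _) _)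
  have hYcomm : ∀ m ∈ N ⊓ C, Y * ρ m = ρ m * Y := by
    intro m hm
    have hEm : Ek 0 * ρ m = ρ m * Ek 0 := by
      rw [hEk]
      simp only [mul_smul_comm, smul_mul_assoc, Finset.mul_sum, Finset.sum_mul, ← map_mul]
      congr 1
      refine Finset.sum_congr rfl fun k _ => ?_
      rw [((show Commute m a from hCmem.mp hm.2).pow_right k).eq]
    refine LinearMap.ext fun y => ?_
    rw [hY, mul_assoc, hEm, ← mul_assoc]
    show X (ρ m (Ek 0 y)) = ρ m (X (Ek 0 y))
    rw [hX ⟨Ek 0 y, hEimg y⟩]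
    have h2 : (ρ₁ ⟨m, hm.2⟩ ⟨Ek 0 y, hEimg y⟩ : W) = ρ m (Ek 0 y) := rfl
    rw [← h2, hX]
    exact congrArg Subtype.val (LinearMap.congr_fun (hcomm₁ ⟨m, hm.2⟩ (mem_subgroupOf.mpr hm.1))
      ⟨Ek 0 y, hEimg y⟩)
  obtain ⟨term, hterm⟩ : ∃ term : ℕ → Module.End K W, term = fun i => ρ (b ^ i) * Y * ρ (b ^ i)⁻¹ :=
    ⟨_, rfl⟩
  have hbp : b ^ p ∈ N ⊓ C := ⟨pow_mem hbN p, hCmem.mpr (mul_inv_eq_iff_eq_mul.mp (by
    rw [hbpow, hzp, one_mul]))⟩
  have hZcomm : ∀ n ∈ N, (∑ i ∈ Finset.range p, term i) * ρ n = ρ n * ∑ i ∈ Finset.range p, term i := by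
    have hm : ∀ m ∈ N ⊓ C, (∑ i ∈ Finset.range p, term i) * ρ m = ρ m * ∑ i ∈ Finset.range p, term i := by
      intro m hm
      rw [Finset.mul_sum, Finset.sum_mul]
      refine Finset.sum_congr rfl fun i _ => ?_
      have hNn : N.Normal := inferInstance
      have hm' : (b ^ i)⁻¹ * m * b ^ i ∈ N ⊓ C :=
        ⟨by simpa using hNn.conj_mem m hm.1 (b ^ i)⁻¹, hCconj m hm.2 i⟩
      rw [hterm]
      calc ρ (b ^ i) * Y * ρ (b ^ i)⁻¹ * ρ m
          = ρ (b ^ i) * (Y * ρ ((b ^ i)⁻¹ * m * b ^ i)) * ρ (b ^ i)⁻¹ := by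
            simp [mul_assoc, ← map_mul]
        _ = ρ (b ^ i) * (ρ ((b ^ i)⁻¹ * m * b ^ i) * Y) * ρ (b ^ i)⁻¹ := by rw [hYcomm _ hm']
        _ = ρ m * (ρ (b ^ i) * Y * ρ (b ^ i)⁻¹) := by
            simp only [← mul_assoc, ← map_mul]
            rw [show b ^ i * (b ^ i)⁻¹ * m * b ^ i = m * b ^ i by group]
    have hbs : (∑ i ∈ Finset.range p, term i) * ρ b = ρ b * ∑ i ∈ Finset.range p, term i := by
      have h1 : ∀ i, term (i + 1) * ρ b = ρ b * term i := fun i => by
        rw [hterm]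
        simp only [mul_assoc, ← map_mul]
        rw [show (b ^ (i + 1))⁻¹ * b = (b ^ i)⁻¹ by rw [pow_succ']; group, ← mul_assoc (ρ b),
          ← map_mul, ← pow_succ']
      have h2 : term p = term 0 := by
        rw [hterm]
        simp only [pow_zero, inv_one, map_one, one_mul, mul_one]
        rw [← hYcomm _ hbp, mul_assoc, ← map_mul, mul_inv_cancel, map_one, mul_one]
      have h3 : ∑ i ∈ Finset.range p, term (i + 1) = ∑ i ∈ Finset.range p, term i := by
        have h4 := Finset.sum_range_succ' term p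
        rw [Finset.sum_range_succ, h2] at h4
        exact (add_right_cancel h4).symm
      conv_lhs => rw [← h3]
      rw [Finset.sum_mul, Finset.mul_sum]
      exact Finset.sum_congr rfl fun i _ => h1 i
    intro m hmN
    obtain ⟨i, c, hc, rfl⟩ := hdecomp m
    have hcN : c ∈ N := by
      have := mul_mem (inv_mem (pow_mem hbN i)) hmN
      rwa [inv_mul_cancel_left] at this
    have hbi : Commute (∑ i ∈ Finset.range p, term i) (ρ (b ^ i)) := by
      rw [map_pow]; exact (show Commute _ (ρ b) from hbs).pow_right i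
    rw [map_mul]
    exact (hbi.mul_right (show Commute _ (ρ c) from hm c ⟨hcN, hc⟩)).eq
  obtain ⟨s, hs⟩ := hcond _ (sum_mem fun i _ => by
    rw [hterm]
    exact mul_mem (mul_mem (Algebra.subset_adjoin ⟨_, pow_mem hbN i, rfl⟩) hYmem)
      (Algebra.subset_adjoin ⟨_, inv_mem (pow_mem hbN i), rfl⟩)) hZcomm
  refine ⟨s, LinearMap.ext fun y => Subtype.ext ?_⟩
  have h1 := LinearMap.congr_fun hs (y : W)
  rw [LinearMap.sum_apply, Finset.sum_eq_single 0 (fun i hi hi0 => ?_)
    (fun h => absurd (Finset.mem_range.mpr hp.out.pos) h), hterm] at h1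
  · simp only [pow_zero, inv_one, map_one, one_mul, mul_one, hY, Module.End.mul_apply, hEfix _ y.2,
      hX] at h1
    exact h1
  · have h2 : Ek 0 (ρ (b ^ i)⁻¹ y) = 0 := by
      have h3 : ρ (b ^ i) (Ek 0 (ρ (b ^ i)⁻¹ y)) = 0 := by
        have := LinearMap.congr_fun (hEb i) (y : W)
        rw [hEkill i hi hi0 _ y.2] at this
        exact this
      have h4 := congrArg (ρ (b ^ i)⁻¹) h3
      rwa [Representation.inv_self_apply, map_zero] at h4
    rw [hterm, hY]
    simp only [Module.End.mul_apply, h2, map_zero]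

variable {P : Type u} [Group P] [Finite P]

/-- No module on which every element outside `N` is fixed-point-free. -/
theorem false_of_fixedPointFree {p : ℕ} [hp : Fact p.Prime] (hp2 : p ≠ 2) (hpK : (p : K) ≠ 0)
    (hP : IsPGroup p P) (N : Subgroup P) [N.Normal] (hN1 : N ≠ ⊥) (hN2 : N ≠ ⊤)
    (hcls : ∀ x, x ∉ N → ∀ n ∈ N, ∃ g : P, g * x * g⁻¹ = x * n)
    {V : Type v} [AddCommGroup V] [Module K V] [FiniteDimensional K V] [Nontrivial V]
    (ρ : Representation K P V) (hfix : ∀ x, x ∉ N → ∀ w, ρ x w = w → w = 0) : False := by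
  classical
  have hK : ∀ A : Subgroup P, (Nat.card A : K) ≠ 0 := by
    intro A
    obtain ⟨k, hk⟩ := IsPGroup.iff_card.mp (hP.to_subgroup A)
    rw [hk, Nat.cast_pow]
    exact pow_ne_zero _ hpK
  haveI : ∀ B : Subgroup P, NeZero (Nat.card B : K) := fun B => ⟨hK B⟩
  have hG : ¬ IsCyclic (P ⧸ N) := by
    intro hc
    obtain ⟨y, hy⟩ := isCyclic_iff_exists_zpowers_eq_top.mp hc
    obtain ⟨x, rfl⟩ := QuotientGroup.mk'_surjective N y
    have hxN : x ∉ N := fun hx => hN2 (eq_top_iff.mpr fun g _ => (QuotientGroup.eq_one_iff g).mp (by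
      have := hy ▸ mem_top (g : P ⧸ N)
      rwa [QuotientGroup.mk'_apply, (QuotientGroup.eq_one_iff x).mpr hx, zpowers_one_eq_bot, mem_bot] at this))
    have hNn : N.Normal := inferInstance
    let f : N → N := fun m => ⟨x⁻¹ * ((m : P) * x * (m : P)⁻¹), by
      have h1 := hNn.conj_mem m m.2 x⁻¹
      rw [inv_inv] at h1
      simpa [mul_assoc] using mul_mem h1 (inv_mem m.2)⟩
    have hsurj : Function.Surjective f := by
      rintro ⟨m, hm⟩
      obtain ⟨g, hg⟩ := hcls x hxN m hm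
      obtain ⟨i, hi⟩ := mem_zpowers_iff.mp (hy ▸ mem_top (g : P ⧸ N))
      have hgN : g * (x ^ i)⁻¹ ∈ N := (QuotientGroup.eq_one_iff _).mp (by
        rw [QuotientGroup.mk_mul, QuotientGroup.mk_inv, QuotientGroup.mk_zpow, ← hi]
        exact mul_inv_cancel _)
      refine ⟨⟨_, hgN⟩, Subtype.ext ?_⟩
      show x⁻¹ * (g * (x ^ i)⁻¹ * x * (g * (x ^ i)⁻¹)⁻¹) = m
      rw [show g * (x ^ i)⁻¹ * x * (g * (x ^ i)⁻¹)⁻¹ = g * x * g⁻¹ by group, hg, inv_mul_cancel_left]
    have hinj := hsurj.injective_of_finite (Equiv.refl N)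
    haveI : Nontrivial N := (Subgroup.nontrivial_iff_ne_bot N).mpr hN1
    haveI : Nontrivial P := nontrivial_of_ne x 1 fun h => hxN (h ▸ one_mem N)
    obtain ⟨z, hzN, hz1, hzc⟩ : ∃ z ∈ N, z ≠ 1 ∧ z ∈ center P := by
      have h1 : p ∣ Nat.card N := by
        obtain ⟨k, hk0, hk⟩ := (hP.to_subgroup N).nontrivial_iff_card.mp inferInstance
        exact hk ▸ dvd_pow_self p hk0.ne'
      obtain ⟨y, hy, hy1⟩ := (hP.of_equiv ConjAct.toConjAct).exists_fixed_point_of_prime_dvd_card_of_fixed_point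
        N h1 (a := (1 : N)) (fun g => smul_one g)
      refine ⟨y, y.2, fun h => hy1 (Subtype.ext h.symm), mem_center_iff.mpr fun g => ?_⟩
      have h2 := congrArg Subtype.val (hy (ConjAct.toConjAct g))
      simp only [ConjAct.Subgroup.val_conj_smul, ConjAct.smul_def, ConjAct.ofConjAct_toConjAct] at h2
      exact mul_inv_eq_iff_eq_mul.mp h2
    refine hz1 (congrArg Subtype.val (hinj (a₁ := ⟨z, hzN⟩) (a₂ := 1) (Subtype.ext ?_)))
    show x⁻¹ * (z * x * z⁻¹) = x⁻¹ * (((1 : N) : P) * x * ((1 : N) : P)⁻¹)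
    rw [← mem_center_iff.mp hzc x]
    simp
  -- the constituent
  obtain ⟨n, σ, hσ, f, hfi, hf⟩ := exists_constituent (ρ.comp N.subtype)
  haveI := nontrivial_of_isIrreducible σ
  have hSnc := stab_not_cyclic (K := K) hP N hcls hG hK N le_rfl σ.character ⟨n, σ, hσ, rfl⟩
  obtain ⟨S, hS⟩ : ∃ S, S = stab σ.character := ⟨_, rfl⟩
  rw [← hS] at hSnc
  obtain ⟨W, hW⟩ : ∃ W : Submodule K V, W = Submodule.span K {w | ∃ L : (Fin n → K) →ₗ[K] V,
      (∀ a x, L (σ a x) = ρ (a : P) (L x)) ∧ ∃ x, L x = w} := ⟨_, rfl⟩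
  have hWmem : ∀ (L : (Fin n → K) →ₗ[K] V), (∀ a x, L (σ a x) = ρ (a : P) (L x)) → ∀ x, L x ∈ W :=
    fun L hL x => hW ▸ Submodule.subset_span ⟨L, hL, x, rfl⟩
  have hinv : ∀ g ∈ S, ∀ y ∈ W, ρ g y ∈ W := by
    intro g hg y hy
    rw [hW] at hy
    induction hy using Submodule.span_induction with
    | mem y hy =>
      obtain ⟨L, hL, x, rfl⟩ := hy
      let τ := σ.comp (MulAut.conjNormal g⁻¹ : MulAut N).toMonoidHom
      haveI : Representation.IsIrreducible τ := by
        refine isIrreducible_of fun U hU => eq_bot_or_eq_top (ρ := σ) U fun a x hx => ?_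
        have h := hU ((MulAut.conjNormal g⁻¹ : MulAut N).symm a) x hx
        simpa [τ] using h
      obtain ⟨e⟩ := nonempty_equiv_of_character_eq τ σ
        (by funext a; exact congrFun ((hS ▸ inv_mem hg : g⁻¹ ∈ stab σ.character)) a)
      have hL' : ∀ a x, (ρ g ∘ₗ L ∘ₗ (e.toLinearEquiv : (Fin n → K) →ₗ[K] (Fin n → K))) (σ a x) =
          ρ (a : P) ((ρ g ∘ₗ L ∘ₗ (e.toLinearEquiv : (Fin n → K) →ₗ[K] (Fin n → K))) x) := by
        intro a x
        have h1 : e.toLinearEquiv (σ a x) = τ a (e.toLinearEquiv x) :=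
          IntertwiningMap.isIntertwining σ τ e.toIntertwiningMap a x
        show ρ g (L (e.toLinearEquiv (σ a x))) = ρ (a : P) (ρ g (L (e.toLinearEquiv x)))
        rw [h1]
        show ρ g (L (σ (MulAut.conjNormal g⁻¹ a) _)) = _
        rw [hL, MulAut.conjNormal_apply, ← Module.End.mul_apply, ← map_mul,
          show g * (g⁻¹ * (a : P) * g⁻¹⁻¹) = (a : P) * g by group, map_mul, Module.End.mul_apply]
      have := hWmem _ hL' (e.toLinearEquiv.symm x)
      simp only [LinearMap.comp_apply] at this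
      rwa [show (e.toLinearEquiv : (Fin n → K) →ₗ[K] (Fin n → K)) (e.toLinearEquiv.symm x) = x from
        e.toLinearEquiv.apply_symm_apply x] at this
    | zero => rw [map_zero]; exact zero_mem W
    | add y y' _ _ h h' => rw [map_add]; exact add_mem h h'
    | smul c y _ h => rw [map_smul]; exact W.smul_mem c h
  let ρ₁ : Representation K S W :=
    { toFun := fun c => (ρ (c : P)).restrict (hinv c c.2)
      map_one' := LinearMap.ext fun y => Subtype.ext (by simp [LinearMap.restrict_apply])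
      map_mul' := fun c d => LinearMap.ext fun y => Subtype.ext (by simp [LinearMap.restrict_apply]) }
  haveI : Nontrivial W := by
    obtain ⟨x, hx⟩ := exists_ne (0 : Fin n → K)
    exact ⟨⟨⟨f x, hWmem f hf x⟩, 0, fun h => hx (hfi ((congrArg Subtype.val h).trans (map_zero f).symm))⟩⟩
  refine false_of_scalar_centre hp2 hpK S (hP.to_subgroup S) (N.subgroupOf S) (fun hc => hSnc ?_) ρ₁
    (fun x hx y hy => Subtype.ext (hfix x (fun h => hx (mem_subgroupOf.mpr h)) y
      (congrArg Subtype.val hy))) ?_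
  · obtain ⟨φ, hφ⟩ : ∃ φ : S ⧸ N.subgroupOf S →* S.map (QuotientGroup.mk' N),
        φ = QuotientGroup.lift (N.subgroupOf S) ((QuotientGroup.mk' N).subgroupMap S) (fun x hx =>
          Subtype.ext ((QuotientGroup.eq_one_iff (x : P)).mpr (mem_subgroupOf.mp hx))) := ⟨_, rfl⟩
    refine isCyclic_of_surjective φ fun y => ?_
    obtain ⟨x, rfl⟩ := (QuotientGroup.mk' N).subgroupMap_surjective S y
    exact ⟨QuotientGroup.mk' _ x, by rw [hφ]; rfl⟩
  intro X hX hcomm
  obtain ⟨Y, hY⟩ : ∃ Y : Module.End K (Fin n → K), ∀ (L : (Fin n → K) →ₗ[K] V)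
      (hL : ∀ a x, L (σ a x) = ρ (a : P) (L x)) (x : Fin n → K),
      (X ⟨L x, hWmem L hL x⟩ : V) = L (Y x) := by
    clear hcomm
    induction hX using Algebra.adjoin_induction with
    | mem y hy =>
      obtain ⟨c, hc, rfl⟩ := hy
      exact ⟨σ ⟨c, mem_subgroupOf.mp hc⟩, fun L hL x => (hL ⟨c, mem_subgroupOf.mp hc⟩ x).symm⟩
    | algebraMap r => exact ⟨algebraMap K _ r, fun L hL x => by simp [map_smul]⟩
    | add y y' _ _ h h' =>
      obtain ⟨Y, hY⟩ := h
      obtain ⟨Y', hY'⟩ := h'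
      exact ⟨Y + Y', fun L hL x => by simp [hY L hL, hY' L hL]⟩
    | mul y y' _ _ h h' =>
      obtain ⟨Y, hY⟩ := h
      obtain ⟨Y', hY'⟩ := h'
      refine ⟨Y * Y', fun L hL x => ?_⟩
      rw [Module.End.mul_apply, Module.End.mul_apply, ← hY L hL (Y' x)]
      congr 2
      exact Subtype.ext (hY' L hL x)
  have hNS : N ≤ S := by
    intro m hm
    rw [hS, mem_stab]
    funext a
    show σ.character (MulAut.conjNormal m a) = σ.character a
    rw [show MulAut.conjNormal m a = (⟨m, hm⟩ : N) * a * (⟨m, hm⟩ : N)⁻¹ from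
      Subtype.ext (MulAut.conjNormal_apply m a), Representation.char_conj]
  have hYc : ∀ a : N, Y * σ a = σ a * Y := by
    intro a
    refine LinearMap.ext fun x => hfi ?_
    rw [Module.End.mul_apply, Module.End.mul_apply, hf a (Y x), ← hY f hf (σ a x)]
    show _ = ρ (a : P) (f (Y x))
    rw [← hY f hf x]
    have h1 := congrArg Subtype.val (LinearMap.congr_fun
      (hcomm ⟨a, hNS a.2⟩ (mem_subgroupOf.mpr a.2)) ⟨f x, hWmem f hf x⟩)
    refine Eq.trans ?_ h1
    show _ = (X (ρ₁ _ _) : V)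
    congr 2
    exact Subtype.ext (hf a x)
  obtain ⟨s, hs⟩ := (Representation.IsIrreducible.algebraMap_intertwiningMap_bijective_of_isAlgClosed
    (ρ := σ)).2 (Y.intertwiningMap_of_isIntertwiningMap σ σ fun a x => LinearMap.congr_fun (hYc a) x)
  have hYs : ∀ x, Y x = s • x := fun x => by
    have := congrArg (fun F : IntertwiningMap σ σ => F.toLinearMap x) hs
    rw [Algebra.algebraMap_eq_smul_one] at this
    exact this.symm
  refine ⟨s, LinearMap.ext fun ⟨y, hy⟩ => Subtype.ext ?_⟩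
  have hy' := hy
  rw [hW] at hy'
  show (X ⟨y, hy⟩ : V) = s • y
  induction hy' using Submodule.span_induction with
  | mem y hy' =>
    obtain ⟨L, hL, x, rfl⟩ := hy'
    rw [hY L hL x, hYs, map_smul]
  | zero =>
    rw [show (⟨0, hy⟩ : W) = 0 from rfl, map_zero, smul_zero]; rfl
  | add y y' h1 h2 h h' =>
    have hy1 : y ∈ W := hW ▸ h1
    have hy2 : y' ∈ W := hW ▸ h2
    rw [show (⟨y + y', hy⟩ : W) = ⟨y, hy1⟩ + ⟨y', hy2⟩ from rfl, map_add, Submodule.coe_add,
      h hy1, h' hy2, smul_add]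
  | smul c y h1 h =>
    have hy1 : y ∈ W := hW ▸ h1
    rw [show (⟨c • y, hy⟩ : W) = c • ⟨y, hy1⟩ from rfl, map_smul, Submodule.coe_smul, h hy1, smul_comm]

end Cfsg.Agent.Lib.CaminaPair.Linear
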